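import Mathlib

/-!
# Ranks inside the classes of a partition of a finite set
-/

set_option autoImplicit false
set_option linter.unusedSectionVars false

open Finset

namespace H18.SymBlock

variable {ι : Type*} [Fintype ι] [DecidableEq ι] (r : ι → ℕ)

/-- The number of points of the class of `i` with smaller value. -/
def rnk (f : ι → ℕ) (i : ι) : ℕ := #{k : ι | r k = r i ∧ f k < f i}

/-- The size of the class `a`. -/
def cnum (a : ℕ) : ℕ := #{k : ι | r k = a}

variable {r} {f : ι → ℕ} (hf : ∀ i k, r i = r k → f i = f k → i = k)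
include hf

theorem rnk_lt_cnum (i : ι) : rnk r f i < cnum r (r i) := by
  refine Finset.card_lt_card ⟨fun k hk => ?_, fun h => ?_⟩
  · simp only [Finset.mem_filter, Finset.mem_univ, true_and] at hk ⊢
    exact hk.1
  · have := h (show i ∈ Finset.univ.filter (fun k => r k = r i) by simp)
    simp at this

theorem rnk_injective {i k : ι} (hr : r i = r k) (h : rnk r f i = rnk r f k) : i = k := by
  by_contra hne
  rcases lt_or_gt_of_ne (fun e => hne (hf i k hr e)) with hlt | hlt
  · apply h.not_lt
    refine Finset.card_lt_card ⟨fun l hl => ?_, fun hsub => ?_⟩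
    · simp only [Finset.mem_filter, Finset.mem_univ, true_and] at hl ⊢
      exact ⟨hl.1.trans hr, hl.2.trans hlt⟩
    · have := hsub (show i ∈ Finset.univ.filter (fun l => r l = r k ∧ f l < f k) by simp [hr, hlt])
      simp at this
  · apply h.not_gt
    refine Finset.card_lt_card ⟨fun l hl => ?_, fun hsub => ?_⟩
    · simp only [Finset.mem_filter, Finset.mem_univ, true_and] at hl ⊢
      exact ⟨hl.1.trans hr.symm, hl.2.trans hlt⟩
    · have := hsub (show k ∈ Finset.univ.filter (fun l => r l = r i ∧ f l < f i) by simp [hr, hlt])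
      simp at this

theorem rnk_surjective (a : ℕ) {v : ℕ} (hv : v < cnum r a) : ∃ i, r i = a ∧ rnk r f i = v := by
  have h := Finset.surj_on_of_inj_on_of_card_le (s := Finset.univ.filter fun k => r k = a)
    (t := Finset.range (cnum r a)) (fun i _ => rnk r f i) (fun i hi => ?_)
    (fun i k hi hk h => ?_) (by rw [Finset.card_range]; rfl) v (Finset.mem_range.2 hv)
  · obtain ⟨i, hi, he⟩ := h
    exact ⟨i, (Finset.mem_filter.1 hi).2, he.symm⟩
  · rw [Finset.mem_filter] at hi
    rw [Finset.mem_range, ← hi.2]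
    exact rnk_lt_cnum hf i
  · rw [Finset.mem_filter] at hi hk
    exact rnk_injective hf (hi.2.trans hk.2.symm) h

theorem rnk_le (i : ι) : rnk r f i ≤ f i := by
  calc rnk r f i = #((Finset.univ.filter fun k => r k = r i ∧ f k < f i).image f) :=
        (Finset.card_image_of_injOn fun k hk l hl h => by
          simp only [Finset.coe_filter, Finset.mem_univ, true_and, Set.mem_ofPred_eq] at hk hl
          exact hf k l (hk.1.trans hl.1.symm) h).symm
    _ ≤ #(Finset.range (f i)) := Finset.card_le_card fun v hv => by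
        simp only [Finset.mem_image, Finset.mem_filter, Finset.mem_univ, true_and] at hv
        obtain ⟨k, hk, rfl⟩ := hv
        exact Finset.mem_range.2 hk.2
    _ = f i := Finset.card_range _

theorem two_mul_sum_rnk :
    2 * ∑ i, rnk r f i = ∑ i, #{k : ι | r k = r i ∧ k ≠ i} := by
  have h1 : ∀ i, #{k : ι | r k = r i ∧ k ≠ i} =
      rnk r f i + #{k : ι | r k = r i ∧ f i < f k} := by
    intro i
    rw [rnk, ← Finset.card_union_of_disjoint]
    · congr 1
      ext k
      simp only [Finset.mem_filter, Finset.mem_univ, true_and, Finset.mem_union]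
      constructor
      · rintro ⟨hk, hne⟩
        rcases lt_or_gt_of_ne (fun e => hne (hf k i hk e)) with h | h
        · exact Or.inl ⟨hk, h⟩
        · exact Or.inr ⟨hk, h⟩
      · rintro (⟨hk, h⟩ | ⟨hk, h⟩) <;> exact ⟨hk, fun e => by subst e; exact lt_irrefl _ h⟩
    · rw [Finset.disjoint_filter]
      rintro k _ ⟨-, h⟩ ⟨-, h'⟩
      exact lt_asymm h h'
  have h2 : ∑ i, #{k : ι | r k = r i ∧ f i < f k} = ∑ i, rnk r f i := by
    simp only [rnk, Finset.card_filter]
    rw [Finset.sum_comm]
    refine Finset.sum_congr rfl fun i _ => Finset.sum_congr rfl fun k _ => ?_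
    exact if_congr (and_congr_left' eq_comm) rfl rfl
  rw [Finset.sum_congr rfl fun i _ => h1 i, Finset.sum_add_distrib, h2, two_mul]

theorem sum_rnk_eq {g : ι → ℕ} (hg : ∀ i k, r i = r k → g i = g k → i = k) :
    ∑ i, rnk r f i = ∑ i, rnk r g i := by
  have h1 := two_mul_sum_rnk hf
  have h2 := two_mul_sum_rnk hg
  omega

theorem sum_rnk_le : ∑ i, rnk r f i ≤ ∑ i, f i := Finset.sum_le_sum fun i _ => rnk_le hf i

theorem eq_rnk_of_sum_le (h : ∑ i, f i ≤ ∑ i, rnk r f i) (i : ι) : f i = rnk r f i := by
  have := (Finset.sum_eq_sum_iff_of_le (fun i _ => rnk_le hf i)).1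
    (le_antisymm (sum_rnk_le hf) h) i (Finset.mem_univ i)
  exact this.symm

/-- The bijection that matches ranks. -/
theorem exists_perm_rnk {g : ι → ℕ} (hg : ∀ i k, r i = r k → g i = g k → i = k) :
    ∃ ρ : Equiv.Perm ι, ∀ i, r (ρ i) = r i ∧ rnk r g (ρ i) = rnk r f i := by
  choose ρ h1 h2 using fun i => rnk_surjective hg (r i) (rnk_lt_cnum hf i)
  have hinj : Function.Injective ρ := fun i k h => by
    refine rnk_injective hf ?_ ?_
    · rw [← h1 i, h, h1]
    · rw [← h2 i, h, h2]
  exact ⟨Equiv.ofBijective ρ (Finite.injective_iff_bijective.1 hinj), fun i => ⟨h1 i, h2 i⟩⟩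

end H18.SymBlock
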