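import Cfsg.Agent.H18.SymBlock.Content
import Cfsg.Agent.H18.SymBlock.Runner

/-!
# A character is non-zero at a product of `p`-cycles of the size of its weight
-/

set_option autoImplicit false
set_option linter.unusedSectionVars false

open Cfsg Finset MvPolynomial
open scoped Nat

namespace H18.SymBlock

universe u

variable {N : ℕ} {p : ℕ}

/-- The residue of each entry. -/
def res (p : ℕ) (b : Fin N → ℕ) : Fin N → ℕ := fun i => b i % p

/-- The quotient of each entry. -/
def quo (p : ℕ) (b : Fin N → ℕ) : Fin N → ℕ := fun i => b i / p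

theorem quo_inj {b : Fin N → ℕ} (hb : Function.Injective b) (i k : Fin N)
    (hr : res p b i = res p b k) (hq : quo p b i = quo p b k) : i = k :=
  hb (by rw [← Nat.mod_add_div (b i) p, ← Nat.mod_add_div (b k) p]
         simp only [res, quo] at hr hq
         rw [hr, hq])

/-- The core: every entry moved to its rank. -/
def core (p : ℕ) (b : Fin N → ℕ) : Fin N → ℕ :=
  fun i => b i % p + p * rnk (res p b) (quo p b) i

/-- The weight. -/
def weight (p : ℕ) (b : Fin N → ℕ) : ℕ :=
  ∑ i, quo p b i - ∑ i, rnk (res p b) (quo p b) i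

theorem core_injective (hp : 0 < p) {b : Fin N → ℕ} (hb : Function.Injective b) :
    Function.Injective (core p b) := by
  intro i k h
  have hr : res p b i = res p b k := by
    have := congrArg (fun x => x % p) h
    simpa [core, res] using this
  refine rnk_injective (quo_inj hb) hr ?_
  simp only [core] at h
  simp only [res] at hr
  rw [hr] at h
  exact Nat.eq_of_mul_eq_mul_left hp (Nat.add_left_cancel h)

theorem sum_delta_le {f : Fin N → ℕ} (hf : Function.Injective f) :
    ∑ i, delta N i ≤ ∑ i, f i := by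
  classical
  set s : Finset ℕ := Finset.univ.image f with hs
  have hcard : #s = N := by rw [hs, Finset.card_image_of_injective _ hf, Finset.card_univ, Fintype.card_fin]
  have h1 : ∑ i, f i = ∑ x ∈ s, x := by rw [hs, Finset.sum_image fun a _ b _ h => hf h]
  have h2 : ∑ i, s.orderEmbOfFin hcard i = ∑ x ∈ s, x := by
    conv_rhs => rw [← Finset.image_orderEmbOfFin_univ s hcard]
    rw [Finset.sum_image fun a _ b _ h => (s.orderEmbOfFin hcard).injective h]
  rw [h1, ← h2]
  exact Finset.sum_le_sum fun i _ => le_of_strictMono (s.orderEmbOfFin hcard).strictMono i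

theorem exists_residual {n : ℕ} (hp : 0 < p) {b : Fin N → ℕ} (hb : IsBeta n b) :
    ∃ m : ℕ, n = p * weight p b + m ∧ ∑ i, core p b i = m + ∑ i, delta N i := by
  have hle : ∑ i, rnk (res p b) (quo p b) i ≤ ∑ i, quo p b i :=
    sum_rnk_le (quo_inj hb.1.injective)
  have hb2 : ∑ i, b i = ∑ i, core p b i + p * weight p b := by
    have h1 : ∑ i, b i = ∑ i, b i % p + p * ∑ i, quo p b i := by
      rw [Finset.mul_sum, ← Finset.sum_add_distrib]
      exact Finset.sum_congr rfl fun i _ => (Nat.mod_add_div (b i) p).symm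
    have h2 : ∑ i, core p b i = ∑ i, b i % p + p * ∑ i, rnk (res p b) (quo p b) i := by
      rw [Finset.mul_sum, ← Finset.sum_add_distrib]; rfl
    rw [h1, h2, weight, add_assoc, ← Nat.mul_add, Nat.add_sub_cancel' hle]
  have h3 := sum_delta_le (core_injective hp hb.1.injective)
  have h4 := hb.2
  exact ⟨∑ i, core p b i - ∑ i, delta N i, by omega, by omega⟩

/-- A degree never vanishes. -/
theorem chiS_one_ne_zero' {α : Type u} [Fintype α] [DecidableEq α] {d : Fin N → ℕ}
    (hd : Function.Injective d) (hsum : ∑ i, d i = Fintype.card α + ∑ i, delta N i) :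
    chiS d (1 : Equiv.Perm α) ≠ 0 := by
  set π := Tuple.sort d
  have hmono : StrictMono (d ∘ π) :=
    (Tuple.monotone_sort d).strictMono_of_injective (hd.comp π.injective)
  have h := chiS_one_ne_zero (α := α) (b := d ∘ π) ⟨hmono, by rw [← hsum]; exact Equiv.sum_comp π d⟩
  rw [chiS_comp] at h
  exact right_ne_zero_of_mul h

variable (p) in
/-- `w` cycles of length `p` and `m` fixed points. -/
def cycles (w m : ℕ) : Equiv.Perm ((Fin w × Fin p) ⊕ Fin m) :=
  Equiv.sumCongr (Equiv.prodCongr (Equiv.refl (Fin w)) (finRotate p)) 1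

theorem colSum_cycles (hp : 0 < p) (w m : ℕ) :
    colSum N ℂ (cycles p w m) =
      (∑ f : Fin w → Fin N, mono ℂ (fun i => p * cnt f i)) * colSum N ℂ (1 : Equiv.Perm (Fin m)) := by
  classical
  obtain ⟨q, rfl⟩ : ∃ q, p = q + 1 := ⟨p - 1, by omega⟩
  rw [cycles, colSum_sumCongr]
  congr 1
  rw [colSum]
  symm
  have hconst : ∀ c : Fin w × Fin (q + 1) → Fin N,
      c ∘ Equiv.prodCongr (Equiv.refl (Fin w)) (finRotate (q + 1)) = c → ∀ i t, c (i, t) = c (i, 0) := by
    intro c hc i t
    have h : ∀ a : Fin (q + 1), c (i, a + 1) = c (i, a) := fun a => by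
      have := congrFun hc (i, a)
      simpa [finRotate_apply] using this
    have h0 : ∀ k : ℕ, ∀ hk : k < q + 1, c (i, ⟨k, hk⟩) = c (i, 0) := by
      intro k
      induction k with
      | zero => intro _; rfl
      | succ k ih =>
        intro hk
        rw [← ih (by omega), ← h ⟨k, by omega⟩]
        congr 2
        apply Fin.ext
        simp [Fin.val_add, Nat.mod_eq_of_lt hk]
    exact h0 t t.2
  refine Finset.sum_nbij (fun f => fun a : Fin w × Fin (q + 1) => f a.1) (fun f _ => ?_)
    (fun f _ g _ h => funext fun i => congrFun h (i, 0)) (fun c hc => ?_) (fun f _ => ?_)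
  · simp [funext_iff]
  · simp only [Finset.coe_filter, Finset.mem_univ, true_and, Set.mem_ofPred_eq] at hc
    exact ⟨fun i => c (i, 0), by simp, funext fun a => (hconst c hc a.1 a.2).symm⟩
  · rw [prod_X_eq_mono]
    congr 1
    funext i
    rw [cnt, cnt]
    rw [show (Finset.univ.filter fun a : Fin w × Fin (q + 1) => f a.1 = i) =
      (Finset.univ.filter fun a => f a = i) ×ˢ (Finset.univ : Finset (Fin (q + 1))) by
        ext a; simp]
    rw [Finset.card_product, Finset.card_univ, Fintype.card_fin, mul_comm]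

/-- The matrix whose determinant is the multiplicity of the core. -/
noncomputable def runMat (p : ℕ) (b : Fin N → ℕ) : Matrix (Fin N) (Fin N) ℂ :=
  Matrix.of fun i k => if res p b i = res p b k then
    (descPochhammer ℂ (rnk (res p b) (quo p b) k)).eval (quo p b i : ℂ) else 0

theorem det_runMat_ne_zero {b : Fin N → ℕ} (hb : Function.Injective b) :
    (runMat p b).det ≠ 0 := by
  classical
  intro h0
  obtain ⟨v, hv, hmul⟩ := Matrix.exists_mulVec_eq_zero_iff.2 h0
  obtain ⟨k₀, hk₀, hmax⟩ := Finset.exists_max_image (Finset.univ.filter fun k => v k ≠ 0)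
    (fun k => rnk (res p b) (quo p b) k) (by
      obtain ⟨k, hk⟩ := Function.ne_iff.1 hv
      exact ⟨k, by simpa using hk⟩)
  rw [Finset.mem_filter] at hk₀
  set a := res p b k₀ with ha
  let S := Finset.univ.filter fun k : Fin N => res p b k = a
  let P : Polynomial ℂ := ∑ k ∈ S, Polynomial.C (v k) * descPochhammer ℂ (rnk (res p b) (quo p b) k)
  have hdeg : P.natDegree < #(S.image fun i => (quo p b i : ℂ)) := by
    rw [Finset.card_image_of_injOn (fun i hi k hk h => quo_inj hb i k
      ((Finset.mem_filter.1 hi).2.trans (Finset.mem_filter.1 hk).2.symm) (Nat.cast_injective h))]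
    have hpos : 0 < #S := Finset.card_pos.2 ⟨k₀, by simp [S, ha]⟩
    refine lt_of_le_of_lt (Polynomial.natDegree_sum_le_of_forall_le S _ fun k hk => ?_)
      (Nat.sub_lt hpos one_pos)
    refine (Polynomial.natDegree_C_mul_le _ _).trans ?_
    rw [descPochhammer_natDegree]
    have := rnk_lt_cnum (quo_inj (p := p) hb) k
    rw [(Finset.mem_filter.1 hk).2] at this
    simp only [cnum] at this
    change rnk _ _ k ≤ #(Finset.univ.filter fun k : Fin N => res p b k = a) - 1
    omega
  have hroot : ∀ x ∈ S.image (fun i => (quo p b i : ℂ)), P.eval x = 0 := by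
    intro x hx
    obtain ⟨i, hi, rfl⟩ := Finset.mem_image.1 hx
    have := congrFun hmul i
    rw [Matrix.mulVec, Pi.zero_apply] at this
    rw [Polynomial.eval_finsetSum, ← this]
    rw [Finset.sum_filter]
    refine Finset.sum_congr rfl fun k _ => ?_
    simp only [runMat, Matrix.of_apply, Polynomial.eval_mul, Polynomial.eval_C]
    have hia := (Finset.mem_filter.1 hi).2
    by_cases hk : res p b k = a
    · rw [if_pos hk, if_pos (hia.trans hk.symm), mul_comm]
    · rw [if_neg hk, if_neg (fun h => hk (h.symm.trans hia)), zero_mul]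
  have hP := Polynomial.eq_zero_of_natDegree_lt_card_of_eval_eq_zero' P _ hroot hdeg
  have hc := congrArg (fun Q => Polynomial.coeff Q (rnk (res p b) (quo p b) k₀)) hP
  simp only [P, Polynomial.finsetSum_coeff, Polynomial.coeff_C_mul, Polynomial.coeff_zero] at hc
  rw [Finset.sum_eq_single k₀] at hc
  · have h1 : (descPochhammer ℂ (rnk (res p b) (quo p b) k₀)).coeff (rnk (res p b) (quo p b) k₀) = 1 := by
      conv_lhs => arg 2; rw [← descPochhammer_natDegree (R := ℂ) (rnk (res p b) (quo p b) k₀)]
      exact (monic_descPochhammer ℂ _).coeff_natDegree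
    rw [h1, mul_one] at hc
    exact hk₀.2 hc
  · intro k hk hne
    by_cases hvk : v k = 0
    · rw [hvk, zero_mul]
    rw [Polynomial.coeff_eq_zero_of_natDegree_lt, mul_zero]
    rw [descPochhammer_natDegree]
    refine lt_of_le_of_ne (hmax k (by simp [hvk])) fun h => hne ?_
    exact rnk_injective (quo_inj hb) (Finset.mem_filter.1 hk).2 h
  · intro h
    exact absurd (by simp [S, ha]) h

theorem chiS_cycles (hp : 0 < p) {b : Fin N → ℕ} (hb : Function.Injective b) (m : ℕ) :
    chiS b (cycles p (weight p b) m) =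
      ((weight p b)! : ℂ) * chiS (core p b) (1 : Equiv.Perm (Fin m)) *
        ((∏ i, ((quo p b i)! : ℂ))⁻¹ * (runMat p b).det) := by
  classical
  set w := weight p b with hw
  set R := res p b with hR
  set q := quo p b with hq
  set k := rnk R q with hk
  have hqi : ∀ i l, R i = R l → q i = q l → i = l := quo_inj hb
  have hle : ∑ i, k i ≤ ∑ i, q i := sum_rnk_le hqi
  have hsumq : ∑ i, q i = w + ∑ i, k i := (Nat.sub_add_cancel hle).symm
  -- expansion over colourings of the cycles
  have h1 : chiS b (cycles p w m) = ∑ e ∈ Finset.piAntidiag (Finset.univ : Finset (Fin N)) w,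
      ((#{f : Fin w → Fin N | cnt f = e} : ℕ) : ℂ) *
        if (fun i => p * e i) ≤ b then chiS (b - fun i => p * e i) (1 : Equiv.Perm (Fin m)) else 0 := by
    rw [chiS, colSum_cycles hp, mul_left_comm, Finset.sum_mul, cf_sum,
      ← Finset.sum_fiberwise_of_maps_to (t := Finset.piAntidiag (Finset.univ : Finset (Fin N)) w)
        (g := fun f : Fin w → Fin N => cnt f) (fun f _ => by simp [Finset.mem_piAntidiag, sum_cnt])]
    refine Finset.sum_congr rfl fun e _ => ?_
    rw [Finset.sum_congr rfl (g := fun _ => if (fun i => p * e i) ≤ b then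
      chiS (b - fun i => p * e i) (1 : Equiv.Perm (Fin m)) else 0) fun f hf => by
      rw [cf_mono_mul, (Finset.mem_filter.1 hf).2]; rfl,
      Finset.sum_const, nsmul_eq_mul]
  -- the terms
  let T := Finset.univ.filter fun ρ : Equiv.Perm (Fin N) => ∀ i, R (ρ i) = R i ∧ k (ρ i) ≤ q i
  let eOf : Equiv.Perm (Fin N) → Fin N → ℕ := fun ρ i => q i - k (ρ i)
  have hval : ∀ ρ ∈ T, eOf ρ ∈ Finset.piAntidiag (Finset.univ : Finset (Fin N)) w ∧
      (fun i => p * eOf ρ i) ≤ b ∧ b - (fun i => p * eOf ρ i) = core p b ∘ ρ := by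
    intro ρ hρ
    simp only [T, Finset.mem_filter, Finset.mem_univ, true_and] at hρ
    refine ⟨?_, ?_, ?_⟩
    · rw [Finset.mem_piAntidiag]
      refine ⟨?_, fun i _ => Finset.mem_univ i⟩
      have : ∑ i, eOf ρ i + ∑ i, k (ρ i) = ∑ i, q i := by
        rw [← Finset.sum_add_distrib]
        exact Finset.sum_congr rfl fun i _ => Nat.sub_add_cancel (hρ i).2
      rw [Equiv.sum_comp ρ k, hsumq] at this
      exact Nat.add_right_cancel this
    · intro i
      exact le_trans (Nat.mul_le_mul_left p (Nat.sub_le _ _)) (Nat.mul_div_le (b i) p)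
    · funext i
      have h := (hρ i).1
      simp only [hR, res] at h
      simp only [Pi.sub_apply, Function.comp_apply, core, eOf]
      rw [h, Nat.mul_sub]
      have h2 := Nat.mod_add_div (b i) p
      have h3 : p * k (ρ i) ≤ p * q i := Nat.mul_le_mul_left p (hρ i).2
      simp only [hq, quo] at h3 ⊢
      simp only [hk, hR, hq] at h3
      change b i - (p * (b i / p) - p * rnk (res p b) (quo p b) (ρ i)) =
        b i % p + p * rnk (res p b) (quo p b) (ρ i)
      change p * rnk (res p b) (quo p b) (ρ i) ≤ p * (b i / p) at h3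
      omega
  have h2 : ∀ e ∈ Finset.piAntidiag (Finset.univ : Finset (Fin N)) w,
      ((#{f : Fin w → Fin N | cnt f = e} : ℕ) : ℂ) *
        (if (fun i => p * e i) ≤ b then chiS (b - fun i => p * e i) (1 : Equiv.Perm (Fin m)) else 0) ≠ 0 →
      ∃ ρ ∈ T, eOf ρ = e := by
    intro e he hne
    have hcond : (fun i => p * e i) ≤ b := by
      by_contra h
      exact hne (by rw [if_neg h, mul_zero])
    rw [if_pos hcond] at hne
    have hinj : Function.Injective (b - fun i => p * e i) := by
      by_contra h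
      exact hne (by rw [chiS_eq_zero h, mul_zero])
    have heq : ∀ i, e i ≤ q i := fun i =>
      (Nat.le_div_iff_mul_le hp).2 (by rw [mul_comm]; exact hcond i)
    let d : Fin N → ℕ := fun i => q i - e i
    have hd : ∀ i, (b - fun j => p * e j) i = R i + p * d i := by
      intro i
      simp only [Pi.sub_apply, d, hR, hq, res, quo, Nat.mul_sub]
      have := Nat.mod_add_div (b i) p
      have h3 : p * e i ≤ p * (b i / p) := Nat.mul_le_mul_left p (heq i)
      omega
    have hdi : ∀ i l, R i = R l → d i = d l → i = l := fun i l h h' =>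
      hinj (by rw [hd, hd, h, h'])
    have hsumd : ∑ i, d i + w = ∑ i, q i := by
      rw [← (Finset.mem_piAntidiag.1 he).1, ← Finset.sum_add_distrib]
      exact Finset.sum_congr rfl fun i _ => Nat.sub_add_cancel (heq i)
    have hmin : ∀ i, d i = rnk R d i := eq_rnk_of_sum_le hdi (by
      rw [sum_rnk_eq hdi hqi]
      show ∑ i, d i ≤ ∑ i, k i
      omega)
    obtain ⟨ρ, hρ⟩ := exists_perm_rnk (r := R) hdi hqi
    have hρd : ∀ i, k (ρ i) = d i := fun i => by rw [hmin i]; exact (hρ i).2
    refine ⟨ρ, Finset.mem_filter.2 ⟨Finset.mem_univ _, fun i => ⟨(hρ i).1, ?_⟩⟩, funext fun i => ?_⟩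
    · rw [hρd]; exact Nat.sub_le _ _
    · simp only [eOf, hρd, d]
      have := heq i
      omega
  have h3 : Set.InjOn eOf T := by
    intro ρ hρ σ hσ h
    simp only [T, Finset.coe_filter, Finset.mem_univ, true_and, Set.mem_ofPred_eq] at hρ hσ
    refine Equiv.ext fun i => rnk_injective hqi ((hρ i).1.trans (hσ i).1.symm) ?_
    have h' := congrFun h i
    simp only [eOf] at h'
    have h4 := (hρ i).2
    have h5 := (hσ i).2
    show k (ρ i) = k (σ i)
    omega
  rw [h1, ← Finset.sum_subset (s₁ := T.image eOf) (fun e he => by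
      obtain ⟨ρ, hρ, rfl⟩ := Finset.mem_image.1 he
      exact (hval ρ hρ).1) (fun e he hn => by
      by_contra hne
      exact hn (Finset.mem_image.2 (h2 e he hne))),
    Finset.sum_image h3, ← Matrix.det_transpose, Matrix.det_apply', Finset.mul_sum, Finset.mul_sum]
  rw [show T = Finset.univ.filter fun ρ : Equiv.Perm (Fin N) => ∀ i, R (ρ i) = R i ∧ k (ρ i) ≤ q i
    from rfl, Finset.sum_filter]
  refine Finset.sum_congr rfl fun ρ _ => ?_
  simp only [Matrix.transpose_apply, runMat, Matrix.of_apply]
  by_cases hρ : ∀ i, R (ρ i) = R i ∧ k (ρ i) ≤ q i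
  · obtain ⟨ha, hb', hc⟩ := hval ρ (Finset.mem_filter.2 ⟨Finset.mem_univ _, hρ⟩)
    rw [if_pos hρ, if_pos hb', hc, chiS_comp]
    have hcount := card_cnt_mul (α := Fin w) (eOf ρ) (by
      rw [(Finset.mem_piAntidiag.1 ha).1, Fintype.card_fin])
    rw [Fintype.card_fin] at hcount
    have hprod : (∏ i, ((quo p b i)! : ℂ))⁻¹ * ∏ i, (if res p b i = res p b (ρ i) then
        (descPochhammer ℂ (rnk (res p b) (quo p b) (ρ i))).eval (quo p b i : ℂ) else 0) =
        (∏ i, ((eOf ρ i)! : ℂ))⁻¹ := by
      rw [← Finset.prod_inv_distrib, ← Finset.prod_inv_distrib, ← Finset.prod_mul_distrib]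
      refine Finset.prod_congr rfl fun i _ => ?_
      rw [if_pos ((hρ i).1).symm, descPochhammer_eval_eq_descFactorial,
        ← Nat.factorial_mul_descFactorial (hρ i).2, Nat.cast_mul, mul_inv, mul_assoc,
        inv_mul_cancel₀ (by exact_mod_cast (Nat.descFactorial_pos.2 (hρ i).2).ne'), mul_one]
    have h0 : (∏ i, ((eOf ρ i)! : ℂ)) ≠ 0 :=
      Finset.prod_ne_zero_iff.2 fun i _ => by exact_mod_cast Nat.factorial_ne_zero _
    rw [mul_left_comm (∏ i, ((quo p b i)! : ℂ))⁻¹, hprod, ← hcount]
    push_cast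
    field_simp
  · rw [if_neg hρ]
    obtain ⟨i, hi⟩ := not_forall.1 hρ
    rw [Finset.prod_eq_zero (f := fun x => if res p b x = res p b (ρ x) then
      (descPochhammer ℂ (rnk (res p b) (quo p b) (ρ x))).eval (quo p b x : ℂ) else 0)
      (Finset.mem_univ i)]
    · ring
    · by_cases h : R (ρ i) = R i
      · rw [if_pos h.symm, descPochhammer_eval_eq_descFactorial,
          Nat.descFactorial_eq_zero_iff_lt.2 (not_le.1 fun h' => hi ⟨h, h'⟩), Nat.cast_zero]
      · rw [if_neg fun h' => h h'.symm]

theorem chiS_cycles_ne_zero (hp : 0 < p) {b : Fin N → ℕ} (hb : Function.Injective b) {m : ℕ}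
    (hm : ∑ i, core p b i = m + ∑ i, delta N i) :
    chiS b (cycles p (weight p b) m) ≠ 0 := by
  rw [chiS_cycles hp hb m]
  refine mul_ne_zero (mul_ne_zero (by exact_mod_cast Nat.factorial_ne_zero _)
    (chiS_one_ne_zero' (core_injective hp hb) (by rw [hm, Fintype.card_fin]))) (mul_ne_zero ?_
    (det_runMat_ne_zero hb))
  exact inv_ne_zero (Finset.prod_ne_zero_iff.2 fun i _ => by exact_mod_cast Nat.factorial_ne_zero _)

end H18.SymBlock
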