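import Cfsg.Agent.H18.SymBlock.Chi
import Cfsg.Prelude.Def_BlockRank

/-!
# Linear relations between the characters on the `p`-regular elements
-/

set_option autoImplicit false
set_option linter.unusedSectionVars false

open Cfsg Finset MvPolynomial

namespace H18.SymBlock

universe u

variable {N : ℕ} {p : ℕ}

variable (N) in
/-- The span of all colouring sums in degree `m`. -/
noncomputable def allSpan (m : ℕ) : Submodule ℂ (MvPolynomial (Fin N) ℂ) :=
  Submodule.span ℂ (Set.range fun g : Equiv.Perm (Fin m) => colSum N ℂ g)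

variable (N p) in
/-- The span of the colouring sums of `p`-singular permutations in degree `m`. -/
noncomputable def singSpan (m : ℕ) : Submodule ℂ (MvPolynomial (Fin N) ℂ) :=
  Submodule.span ℂ ((fun g : Equiv.Perm (Fin m) => colSum N ℂ g) '' {g | p ∣ orderOf g})

theorem singSpan_le (m : ℕ) : singSpan N p m ≤ allSpan N m :=
  Submodule.span_mono (Set.image_subset_range _ _)

theorem exists_sum_perm {a b : ℕ} (g : Equiv.Perm (Fin a)) (h : Equiv.Perm (Fin b)) :
    ∃ k : Equiv.Perm (Fin (a + b)),
      colSum N ℂ k = colSum N ℂ g * colSum N ℂ h ∧ orderOf g ∣ orderOf k := by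
  refine ⟨finSumFinEquiv.permCongr (Equiv.sumCongr g h), ?_, ?_⟩
  · rw [colSum_congr, colSum_sumCongr]
  · have h1 : orderOf (finSumFinEquiv.permCongr (Equiv.sumCongr g h)) =
        orderOf (Equiv.Perm.sumCongrHom (Fin a) (Fin b) (g, h)) :=
      orderOf_injective (finSumFinEquiv (m := a) (n := b)).permCongrHom.toMonoidHom
        (finSumFinEquiv (m := a) (n := b)).permCongrHom.injective _
    rw [h1, orderOf_injective _ Equiv.Perm.sumCongrHom_injective, Prod.orderOf_mk]
    exact Nat.dvd_lcm_left _ _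

theorem mul_mem_allSpan {a b : ℕ} {F F' : MvPolynomial (Fin N) ℂ} (hF : F ∈ allSpan N a)
    (hF' : F' ∈ allSpan N b) : F * F' ∈ allSpan N (a + b) := by
  refine Submodule.mul_le.2 ?_ (Submodule.mul_mem_mul hF hF')
  intro x hx y hy
  induction hx using Submodule.span_induction with
  | mem x hx =>
    obtain ⟨g, rfl⟩ := hx
    induction hy using Submodule.span_induction with
    | mem y hy =>
      obtain ⟨h, rfl⟩ := hy
      obtain ⟨k, hk, -⟩ := exists_sum_perm (N := N) g h
      exact Submodule.subset_span ⟨k, hk⟩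
    | zero => rw [mul_zero]; exact Submodule.zero_mem _
    | add y z _ _ h1 h2 => rw [mul_add]; exact Submodule.add_mem _ h1 h2
    | smul c y _ h1 => rw [mul_smul_comm]; exact Submodule.smul_mem _ c h1
  | zero => rw [zero_mul]; exact Submodule.zero_mem _
  | add x z _ _ h1 h2 => rw [add_mul]; exact Submodule.add_mem _ h1 h2
  | smul c x _ h1 => rw [smul_mul_assoc]; exact Submodule.smul_mem _ c h1

theorem mul_mem_singSpan {a b : ℕ} {F F' : MvPolynomial (Fin N) ℂ} (hF : F ∈ singSpan N p a)
    (hF' : F' ∈ allSpan N b) : F * F' ∈ singSpan N p (a + b) := by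
  induction hF using Submodule.span_induction with
  | mem x hx =>
    obtain ⟨g, hg, rfl⟩ := hx
    induction hF' using Submodule.span_induction with
    | mem y hy =>
      obtain ⟨h, rfl⟩ := hy
      obtain ⟨k, hk, hdvd⟩ := exists_sum_perm (N := N) g h
      exact Submodule.subset_span ⟨k, dvd_trans hg hdvd, hk⟩
    | zero => rw [mul_zero]; exact Submodule.zero_mem _
    | add y z _ _ h1 h2 => rw [mul_add]; exact Submodule.add_mem _ h1 h2
    | smul c y _ h1 => rw [mul_smul_comm]; exact Submodule.smul_mem _ c h1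
  | zero => rw [zero_mul]; exact Submodule.zero_mem _
  | add x z _ _ h1 h2 => rw [add_mul]; exact Submodule.add_mem _ h1 h2
  | smul c x _ h1 => rw [smul_mul_assoc]; exact Submodule.smul_mem _ c h1

theorem one_mem_allSpan : (1 : MvPolynomial (Fin N) ℂ) ∈ allSpan N 0 :=
  Submodule.subset_span ⟨1, by simp only [colSum_one, Fintype.card_fin, pow_zero]⟩

theorem hpoly_mem_allSpan (m : ℕ) : hpoly N ℂ m ∈ allSpan N m := by
  have h := sum_colSum (N := N) (R := ℂ) (α := Fin m)
  rw [Fintype.card_fin, ← map_natCast (MvPolynomial.C (σ := Fin N) (R := ℂ)), ← smul_eq_C_mul] at h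
  have h0 : (m.factorial : ℂ) ≠ 0 := by exact_mod_cast Nat.factorial_ne_zero m
  rw [← inv_smul_smul₀ h0 (hpoly N ℂ m), ← h]
  exact Submodule.smul_mem _ _ (Submodule.sum_mem _ fun g _ => Submodule.subset_span ⟨g, rfl⟩)

theorem prod_hpoly_mem_allSpan {ι : Type*} (s : Finset ι) (e : ι → ℕ) :
    ∏ i ∈ s, hpoly N ℂ (e i) ∈ allSpan N (∑ i ∈ s, e i) := by
  classical
  induction s using Finset.induction with
  | empty => rw [Finset.prod_empty, Finset.sum_empty]; exact one_mem_allSpan
  | insert a s ha ih =>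
    rw [Finset.prod_insert ha, Finset.sum_insert ha]
    exact mul_mem_allSpan (hpoly_mem_allSpan _) ih

theorem psum_mem_singSpan (hp : 2 ≤ p) {j : ℕ} (hj : 0 < j) :
    psum (Fin N) ℂ (p * j) ∈ singSpan N p (p * j) := by
  obtain ⟨m, hm⟩ : ∃ m, p * j = m + 2 := ⟨p * j - 2, by
    have := Nat.le_mul_of_pos_right p hj
    omega⟩
  rw [hm]
  refine Submodule.subset_span ⟨finRotate (m + 2), ?_, colSum_finRotate (m + 1)⟩
  show p ∣ orderOf (finRotate (m + 2))
  rw [isCycle_finRotate.orderOf, support_finRotate, Finset.card_univ, Fintype.card_fin, ← hm]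
  exact dvd_mul_right p j

theorem expand_psum (j : ℕ) :
    expand p (psum (Fin N) ℂ j) = psum (Fin N) ℂ (p * j) := by
  simp [psum, ← pow_mul]

theorem expand_esymm_mem (hp : 2 ≤ p) (k : ℕ) :
    expand p (esymm (Fin N) ℂ k) ∈ allSpan N (p * k) ∧
      (0 < k → expand p (esymm (Fin N) ℂ k) ∈ singSpan N p (p * k)) := by
  induction k using Nat.strong_induction_on with
  | _ k ih =>
    rcases Nat.eq_zero_or_pos k with rfl | hk
    · rw [esymm_zero, map_one, mul_zero]
      exact ⟨one_mem_allSpan, fun h => absurd h (lt_irrefl 0)⟩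
    suffices h : expand p (esymm (Fin N) ℂ k) ∈ singSpan N p (p * k) from ⟨singSpan_le _ h, fun _ => h⟩
    have h0 : (k : ℂ) ≠ 0 := by exact_mod_cast hk.ne'
    rw [← inv_smul_smul₀ h0 (expand p (esymm (Fin N) ℂ k))]
    refine Submodule.smul_mem _ _ ?_
    have h := congrArg (expand p) (mul_esymm_eq_sum (Fin N) ℂ k)
    rw [map_mul, map_natCast] at h
    rw [smul_eq_C_mul, map_natCast, h]
    have hs : ∀ (c : ℕ) (F : MvPolynomial (Fin N) ℂ), F ∈ singSpan N p (p * k) →
        (-1 : MvPolynomial (Fin N) ℂ) ^ c * F ∈ singSpan N p (p * k) := fun c F hF => by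
      rw [show (-1 : MvPolynomial (Fin N) ℂ) ^ c = MvPolynomial.C ((-1 : ℂ) ^ c) by simp,
        ← smul_eq_C_mul]
      exact Submodule.smul_mem _ _ hF
    rw [map_mul, map_pow, map_neg, map_one, map_sum]
    refine hs _ _ (Submodule.sum_mem _ fun a ha => ?_)
    rw [Finset.mem_filter, HasAntidiagonal.mem_antidiagonal] at ha
    rw [map_mul, map_mul, map_pow, map_neg, map_one, mul_assoc]
    refine hs _ _ ?_
    rw [expand_psum, show p * k = p * a.2 + p * a.1 by rw [← Nat.mul_add]; congr 1; omega,
      mul_comm (expand p (esymm (Fin N) ℂ a.1)) (psum (Fin N) ℂ (p * a.2))]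
    exact mul_mem_singSpan (psum_mem_singSpan hp (by omega)) (ih a.1 (by omega)).1

variable {α : Type u} [Fintype α] [DecidableEq α]

/-- A shifted exponent vector: the entries in `S` are raised by `p`. -/
def shiftUp (p : ℕ) (μ : Fin N → ℕ) (S : Finset (Fin N)) : Fin N → ℕ :=
  fun i => μ i + if i ∈ S then p else 0

theorem mono_mul_mono (e f : Fin N → ℕ) : mono ℂ e * mono ℂ f = mono ℂ (fun i => e i + f i) := by
  simp only [mono_eq_prod, ← Finset.prod_mul_distrib, ← pow_add]

theorem altP_mul_expand_esymm (μ : Fin N → ℕ) (k : ℕ) :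
    altP N ℂ μ * expand p (esymm (Fin N) ℂ k) =
      ∑ S ∈ Finset.powersetCard k Finset.univ, altP N ℂ (shiftUp p μ S) := by
  have h1 : expand p (esymm (Fin N) ℂ k) = ∑ S ∈ Finset.powersetCard k (Finset.univ : Finset (Fin N)),
      mono ℂ (fun i => if i ∈ S then p else 0) := by
    rw [esymm, map_sum]
    refine Finset.sum_congr rfl fun S _ => ?_
    rw [map_prod, mono_eq_prod]
    simp only [expand_X]
    rw [← Finset.prod_subset (Finset.subset_univ S) fun i _ hi => by rw [if_neg hi, pow_zero]]
    exact Finset.prod_congr rfl fun i hi => by rw [if_pos hi]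
  rw [h1, Finset.mul_sum]
  simp only [altP, Finset.sum_mul]
  rw [Finset.sum_comm]
  conv_rhs => rw [Finset.sum_comm]
  refine Finset.sum_congr rfl fun π _ => ?_
  refine Finset.sum_equiv (Equiv.finsetCongr π) (fun S => by simp [Finset.mem_powersetCard]) fun S _ => ?_
  rw [mul_assoc, mono_mul_mono]
  congr 2
  funext i
  simp [shiftUp, Function.comp_apply]

/-- The value on `p`-regular elements of an alternant coefficient function. -/
noncomputable def regPart (p : ℕ) (d : Fin N → ℕ) : Equiv.Perm α → ℂ :=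
  pRegularPart p (chiS d)

theorem regPart_eq_zero {d : Fin N → ℕ} (hd : ¬ Function.Injective d) :
    (regPart p d : Equiv.Perm α → ℂ) = 0 := by
  funext g
  rw [regPart, pRegularPart]
  split_ifs
  · rw [chiS_eq_zero hd, Pi.zero_apply]
  · rfl

theorem regPart_comp (d : Fin N → ℕ) (π : Equiv.Perm (Fin N)) :
    (regPart p (d ∘ π) : Equiv.Perm α → ℂ) = ((Equiv.Perm.sign π : ℤ) : ℂ) • regPart p d := by
  funext g
  rw [Pi.smul_apply, regPart, regPart, pRegularPart, pRegularPart, smul_eq_mul]
  split_ifs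
  · rw [chiS_comp]
  · rw [mul_zero]

theorem sum_cf_altP_regPart [Fintype (Beta N (Fintype.card α))] {d : Fin N → ℕ}
    (hsum : ∑ i, d i = Fintype.card α + ∑ i, delta N i) :
    ∑ b : Beta N (Fintype.card α), cf (b : Fin N → ℕ) (altP N ℂ d) •
      (regPart p (b : Fin N → ℕ) : Equiv.Perm α → ℂ) = regPart p d := by
  classical
  by_cases hd : Function.Injective d
  · set π := Tuple.sort d with hπ
    have hmono : StrictMono (d ∘ π) :=
      (Tuple.monotone_sort d).strictMono_of_injective (hd.comp π.injective)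
    have hbeta : IsBeta (Fintype.card α) (d ∘ π) := ⟨hmono, by rw [← hsum]; exact Equiv.sum_comp π d⟩
    have huniq : ∀ (b : Beta N (Fintype.card α)) (σ : Equiv.Perm (Fin N)),
        d ∘ σ = (b : Fin N → ℕ) → σ = π := by
      intro b σ h
      have h1 : (b : Fin N → ℕ) = d ∘ π := by
        refine (b.2.1.range_inj hmono).1 ?_
        rw [← h, Set.range_comp, Set.range_comp, σ.surjective.range_eq, π.surjective.range_eq]
      exact Equiv.ext fun i => hd (congrFun (h.trans h1) i)
    rw [Finset.sum_eq_single (⟨d ∘ π, hbeta⟩ : Beta N (Fintype.card α))]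
    · show cf (d ∘ π) (altP N ℂ d) • regPart p (d ∘ π) = _
      rw [cf_altP, Finset.sum_eq_single π, if_pos rfl, regPart_comp, smul_smul]
      · rcases Int.units_eq_one_or (Equiv.Perm.sign π) with h | h <;> simp [h]
      · intro σ _ hσ
        rw [if_neg fun h => hσ (huniq ⟨d ∘ π, hbeta⟩ σ h)]
      · simp
    · intro b _ hb
      rw [cf_altP, Finset.sum_eq_zero, zero_smul]
      intro σ _
      rw [if_neg]
      intro h
      apply hb
      apply Subtype.ext
      rw [← h, huniq b σ h]
    · simp
  · rw [regPart_eq_zero hd]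
    refine Finset.sum_eq_zero fun b _ => ?_
    rw [cf_altP, Finset.sum_eq_zero, zero_smul]
    intro σ _
    rw [if_neg]
    intro h
    apply hd
    have := b.2.1.injective
    rw [← h] at this
    simpa [Function.comp_assoc] using this.comp σ.symm.injective

theorem sum_cf_mul_regPart_eq_zero [Fintype (Beta N (Fintype.card α))]
    (hN : Fintype.card α ≤ N) {F : MvPolynomial (Fin N) ℂ} (hF : F ∈ singSpan N p (Fintype.card α)) :
    ∑ b : Beta N (Fintype.card α), cf (b : Fin N → ℕ) (altP N ℂ (delta N) * F) •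
      (regPart p (b : Fin N → ℕ) : Equiv.Perm α → ℂ) = 0 := by
  classical
  induction hF using Submodule.span_induction with
  | mem x hx =>
    obtain ⟨g, hg, rfl⟩ := hx
    obtain ⟨e⟩ : Nonempty (Fin (Fintype.card α) ≃ α) := ⟨(Fintype.equivFin α).symm⟩
    dsimp only
    rw [← colSum_congr e g]
    funext h
    rw [Finset.sum_apply, Pi.zero_apply]
    by_cases hh : IsPRegular p h
    · have hne : ¬ IsConj (e.permCongr g) h := by
        intro hc
        apply hh
        obtain ⟨c, rfl⟩ := isConj_iff.1 hc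
        have h1 : orderOf (c * e.permCongr g * c⁻¹) = orderOf g := by
          refine Eq.trans ?_ (orderOf_injective e.permCongrHom.toMonoidHom e.permCongrHom.injective g)
          exact orderOf_injective (MulAut.conj c).toMonoidHom (MulAut.conj c).injective _
        rw [h1]
        exact hg
      refine Eq.trans (Finset.sum_congr rfl fun b _ => ?_) (sum_chiS_chiS hN hne)
      rw [Pi.smul_apply, regPart, pRegularPart, if_pos hh, smul_eq_mul]
      rfl
    · refine Finset.sum_eq_zero fun b _ => ?_
      rw [Pi.smul_apply, regPart, pRegularPart, if_neg hh, smul_zero]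
  | zero => simp [cf]
  | add x z _ _ h1 h2 =>
    simp only [mul_add, cf, coeff_add, add_smul, Finset.sum_add_distrib]
    simp only [cf] at h1 h2
    rw [h1, h2, add_zero]
  | smul c x _ h1 =>
    simp only [cf, mul_smul_comm, coeff_smul, smul_eq_mul, ← smul_smul, ← Finset.smul_sum]
    simp only [cf] at h1
    rw [h1, smul_zero]

/-- Raising `k` entries by `p` in all possible ways gives a relation on the `p`-regular elements. -/
theorem sum_shiftUp_eq_zero (hp : 2 ≤ p) (hN : Fintype.card α ≤ N) {k : ℕ} (hk : 0 < k)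
    {μ : Fin N → ℕ} (hμ : ∑ i, μ i + p * k = Fintype.card α + ∑ i, delta N i) :
    ∑ S ∈ Finset.powersetCard k (Finset.univ : Finset (Fin N)),
      (regPart p (shiftUp p μ S) : Equiv.Perm α → ℂ) = 0 := by
  classical
  have : Fintype (Beta N (Fintype.card α)) := Fintype.ofFinite _
  have hmem : ∀ π : Equiv.Perm (Fin N),
      ((Equiv.Perm.sign π : ℤ) : MvPolynomial (Fin N) ℂ) *
        (∏ i, if ((π i : Fin N) : ℕ) ≤ μ i then hpoly N ℂ (μ i - (π i : Fin N)) else 0) *
        expand p (esymm (Fin N) ℂ k) ∈ singSpan N p (Fintype.card α) := by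
    intro π
    rw [mul_assoc, show ((Equiv.Perm.sign π : ℤ) : MvPolynomial (Fin N) ℂ) =
      MvPolynomial.C ((Equiv.Perm.sign π : ℤ) : ℂ) from (map_intCast _ _).symm, ← smul_eq_C_mul]
    refine Submodule.smul_mem _ _ ?_
    by_cases h : ∀ i, ((π i : Fin N) : ℕ) ≤ μ i
    · rw [Finset.prod_congr rfl (g := fun i => hpoly N ℂ (μ i - (π i : Fin N))) fun i _ => if_pos (h i),
        mul_comm]
      have hdeg : ∑ i, (μ i - ((π i : Fin N) : ℕ)) + ∑ i, delta N (π i) = ∑ i, μ i := by
        rw [← Finset.sum_add_distrib]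
        exact Finset.sum_congr rfl fun i _ => Nat.sub_add_cancel (h i)
      rw [Equiv.sum_comp π (delta N)] at hdeg
      rw [show Fintype.card α = p * k + ∑ i, (μ i - ((π i : Fin N) : ℕ)) by omega]
      exact mul_mem_singSpan ((expand_esymm_mem hp k).2 hk) (prod_hpoly_mem_allSpan _ _)
    · obtain ⟨i, hi⟩ := not_forall.1 h
      rw [Finset.prod_eq_zero (Finset.mem_univ i) (if_neg hi), zero_mul]
      exact Submodule.zero_mem _
  have h0 := sum_cf_mul_regPart_eq_zero (p := p) (α := α) hN
    (Submodule.sum_mem (t := Finset.univ) _ fun π _ => hmem π)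
  rw [← Finset.sum_mul, ← mul_assoc,
    show (∑ π : Equiv.Perm (Fin N), ((Equiv.Perm.sign π : ℤ) : MvPolynomial (Fin N) ℂ) *
      ∏ i, if ((π i : Fin N) : ℕ) ≤ μ i then hpoly N ℂ (μ i - (π i : Fin N)) else 0) =
      (jtMat N ℂ μ).det from
      by rw [← Matrix.det_transpose, Matrix.det_apply']; rfl,
    show altP N ℂ (delta N) * (jtMat N ℂ μ).det = altP N ℂ μ from (altP_eq μ).symm,
    altP_mul_expand_esymm] at h0
  rw [← h0]
  simp only [cf_sum, Finset.sum_smul]
  rw [Finset.sum_comm]
  refine Finset.sum_congr rfl fun S hS => ?_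
  rw [sum_cf_altP_regPart]
  simp only [shiftUp, Finset.sum_add_distrib, Finset.sum_ite_mem, Finset.univ_inter,
    Finset.sum_const, (Finset.mem_powersetCard.1 hS).2, smul_eq_mul]
  rw [mul_comm k p]
  exact hμ

end H18.SymBlock
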