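import Cfsg.Agent.H18.SymBlock.Configs
import Cfsg.Agent.H18.SymBlock.Hooks
import Cfsg.Agent.H18.SymBlock.Relations

/-!
# A bound on the rank of the characters of given residues and weight on the `p`-regular elements
-/

set_option autoImplicit false
set_option linter.unusedSectionVars false

open Cfsg Finset

namespace H18.SymBlock

universe u

variable {N : ℕ} {p : ℕ}

/-- The exponent vectors of given degree, residues and weight. -/
def Good (p n w : ℕ) (R : Multiset ℕ) (d : Fin N → ℕ) : Prop :=
  Function.Injective d ∧ ∑ i, d i = n + ∑ i, delta N i ∧ weight p d = w ∧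
    (Finset.univ : Finset (Fin N)).val.map (res p d) = R

theorem exists_gap (hp : 0 < p) (d : Fin N → ℕ) : ∃ q, q ≤ N ∧ ∀ i, d i ≠ p * q := by
  by_contra h
  push Not at h
  choose f hf using fun q : Fin (N + 1) => h q (Nat.lt_succ_iff.1 q.2)
  have hinj : Function.Injective f := fun a b hab => by
    have := hf a
    rw [hab, hf b] at this
    exact Fin.ext (Nat.eq_of_mul_eq_mul_left hp this.symm)
  have := Fintype.card_le_of_injective f hinj
  simp at this

open Classical in
/-- The first gap on runner zero. -/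
noncomputable def gapOf (p : ℕ) (d : Fin N → ℕ) : ℕ :=
  if h : ∃ q, ∀ i, d i ≠ p * q then Nat.find h else 0

theorem gapOf_spec (hp : 0 < p) (d : Fin N → ℕ) :
    gapOf p d ≤ N ∧ (∀ i, d i ≠ p * gapOf p d) ∧ ∀ q, (∀ i, d i ≠ p * q) → gapOf p d ≤ q := by
  classical
  obtain ⟨q, hq, hne⟩ := exists_gap hp d
  have h : ∃ q, ∀ i, d i ≠ p * q := ⟨q, hne⟩
  rw [gapOf, dif_pos h]
  exact ⟨(Nat.find_min' h hne).trans hq, Nat.find_spec h, fun r hr => Nat.find_min' h hr⟩

/-- The measure for the elimination. -/
noncomputable def meas (p : ℕ) (d : Fin N → ℕ) : ℕ :=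
  (∑ i ∈ Finset.univ.filter (fun i => res p d i = 0), quo p d i) * (N + 1) + gapOf p d

theorem sum_res_add (p : ℕ) (d : Fin N → ℕ) :
    ∑ i, d i = ∑ i, res p d i + p * ∑ i, quo p d i := by
  rw [Finset.mul_sum, ← Finset.sum_add_distrib]
  exact Finset.sum_congr rfl fun i _ => (Nat.mod_add_div (d i) p).symm

theorem two_mul_sum_rnk_eq {d : Fin N → ℕ} (hd : Function.Injective d) :
    2 * ∑ i, rnk (res p d) (quo p d) i =
      (((Finset.univ : Finset (Fin N)).val.map (res p d)).map fun a =>
        Multiset.count a ((Finset.univ : Finset (Fin N)).val.map (res p d)) - 1).sum := by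
  classical
  rw [two_mul_sum_rnk (quo_inj hd), Multiset.map_map, Finset.sum_eq_multiset_sum]
  congr 1
  refine Multiset.map_congr rfl fun i _ => ?_
  simp only [Function.comp_apply, Multiset.count_map]
  rw [show (Finset.univ.filter fun k => res p d k = res p d i ∧ k ≠ i) =
    (Finset.univ.filter fun k => res p d i = res p d k).erase i by
      ext k; simp [and_comm, eq_comm],
    Finset.card_erase_of_mem (by simp)]
  rfl

theorem weight_congr (hp : 0 < p) {d e : Fin N → ℕ} (hd : Function.Injective d)
    (he : Function.Injective e)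
    (hR : (Finset.univ : Finset (Fin N)).val.map (res p d) = (Finset.univ : Finset (Fin N)).val.map (res p e))
    (hsum : ∑ i, d i = ∑ i, e i) : weight p d = weight p e := by
  have h1 := two_mul_sum_rnk_eq (p := p) hd
  have h2 := two_mul_sum_rnk_eq (p := p) he
  rw [hR] at h1
  have h3 := sum_res_add p d
  have h4 := sum_res_add p e
  have h5 : ∑ i, res p d i = ∑ i, res p e i := by
    rw [Finset.sum_eq_multiset_sum, Finset.sum_eq_multiset_sum, hR]
  have h6 : ∑ i, quo p d i = ∑ i, quo p e i := by
    refine Nat.eq_of_mul_eq_mul_left hp ?_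
    omega
  rw [weight, weight, h6]
  omega

theorem wt_image {e : Fin N → ℕ} (he : Function.Injective e) :
    wt p ((Finset.univ : Finset (Fin N)).image e) = weight p e := by
  classical
  rw [wt, Finset.sum_image fun a _ b _ h => he h, weight,
    ← Finset.sum_tsub_distrib _ fun i _ => rnk_le (quo_inj he) i]
  refine Finset.sum_congr rfl fun i _ => ?_
  congr 1
  rw [below, rnk, Finset.filter_image, Finset.card_image_of_injective _ he]
  congr 1
  refine Finset.filter_congr fun k _ => and_congr_right fun h => ?_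
  simp only [quo]
  have h1 := Nat.mod_add_div (e k) p
  have h2 := Nat.mod_add_div (e i) p
  constructor
  · intro hlt
    by_contra hge
    have := Nat.mul_le_mul_left p (not_lt.1 hge)
    omega
  · intro hlt
    by_contra hge
    exact absurd (Nat.div_le_div_right (c := p) (not_lt.1 hge)) (not_le.2 hlt)

variable {α : Type u} [Fintype α] [DecidableEq α]

open Classical in
theorem regPart_mem_span (hp : 2 ≤ p) (hN : Fintype.card α ≤ N) (w : ℕ) (R : Multiset ℕ)
    {d : Fin N → ℕ} (hd : Good p (Fintype.card α) w R d) :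
    (regPart p d : Equiv.Perm α → ℂ) ∈ Submodule.span ℂ
      ((fun e : Fin N → ℕ => (regPart p e : Equiv.Perm α → ℂ)) ''
        {e | Good p (Fintype.card α) w R e ∧ Ground p (Finset.univ.image e)}) := by
  have hp0 : 0 < p := by omega
  suffices main : ∀ m, ∀ d : Fin N → ℕ, meas p d = m → Good p (Fintype.card α) w R d →
      (regPart p d : Equiv.Perm α → ℂ) ∈ Submodule.span ℂ
        ((fun e : Fin N → ℕ => (regPart p e : Equiv.Perm α → ℂ)) ''
          {e | Good p (Fintype.card α) w R e ∧ Ground p (Finset.univ.image e)}) from main _ d rfl hd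
  intro m
  induction m using Nat.strong_induction_on with
  | _ m ih =>
  intro d hm hd
  by_cases hG : Ground p ((Finset.univ : Finset (Fin N)).image d)
  · exact Submodule.subset_span ⟨d, ⟨hd, hG⟩, rfl⟩
  obtain ⟨hgN, hgap, hgmin⟩ := gapOf_spec hp0 d
  set g := gapOf p d with hg
  set T := (Finset.univ : Finset (Fin N)).filter fun i => res p d i = 0 ∧ g < quo p d i with hT
  have hTne : T.Nonempty := by
    simp only [Ground, not_forall] at hG
    obtain ⟨x, hx, hx0, q, hq, hnot⟩ := hG
    obtain ⟨i, -, rfl⟩ := Finset.mem_image.1 hx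
    have : g ≤ q := hgmin q fun j hj => hnot (Finset.mem_image.2 ⟨j, Finset.mem_univ j, hj⟩)
    exact ⟨i, Finset.mem_filter.2 ⟨Finset.mem_univ i, hx0, lt_of_le_of_lt this hq⟩⟩
  have hTge : ∀ i ∈ T, p ≤ d i := fun i hi => by
    obtain ⟨-, -, h⟩ := Finset.mem_filter.1 hi
    have h1 : p * 1 ≤ p * (d i / p) := Nat.mul_le_mul_left p (by simp only [quo] at h; omega)
    have h2 := Nat.mul_div_le (d i) p
    omega
  set μ : Fin N → ℕ := fun i => d i - (if i ∈ T then p else 0) with hμdef
  have hTd : shiftUp p μ T = d := by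
    funext i
    simp only [shiftUp, hμdef]
    split_ifs with h
    · exact Nat.sub_add_cancel (hTge i h)
    · simp
  have hμ : ∑ i, μ i + p * #T = Fintype.card α + ∑ i, delta N i := by
    rw [← hd.2.1]
    conv_rhs => rw [← hTd]
    simp only [shiftUp, Finset.sum_add_distrib, Finset.sum_ite_mem, Finset.univ_inter,
      Finset.sum_const, smul_eq_mul]
    rw [mul_comm]
  have hrel := sum_shiftUp_eq_zero (α := α) hp hN hTne.card_pos hμ
  rw [← Finset.add_sum_erase _ _ (show T ∈ Finset.powersetCard #T (Finset.univ : Finset (Fin N)) by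
    simp [Finset.mem_powersetCard]), hTd] at hrel
  rw [eq_neg_of_add_eq_zero_left hrel]
  refine Submodule.neg_mem _ (Submodule.sum_mem _ fun S hS => ?_)
  obtain ⟨hST, hS⟩ := Finset.mem_erase.1 hS
  have hcard : #S = #T := (Finset.mem_powersetCard.1 hS).2
  set d' := shiftUp p μ S with hd'
  by_cases hinj : Function.Injective d'
  swap
  · rw [regPart_eq_zero hinj]; exact Submodule.zero_mem _
  have hval : ∀ i, d' i + (if i ∈ T then p else 0) = d i + (if i ∈ S then p else 0) := fun i => by
    simp only [hd', shiftUp, hμdef]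
    by_cases h : i ∈ T
    · have := hTge i h
      simp only [if_pos h]
      omega
    · simp only [if_neg h]; omega
  have hres : res p d' = res p d := funext fun i => by
    have h1 : (d' i + (if i ∈ T then p else 0)) % p = d' i % p := by
      split_ifs
      · exact Nat.add_mod_right _ _
      · rfl
    have h2 : (d i + (if i ∈ S then p else 0)) % p = d i % p := by
      split_ifs
      · exact Nat.add_mod_right _ _
      · rfl
    simp only [res]
    rw [← h1, hval, h2]
  have hquo : ∀ i, quo p d' i + (if i ∈ T then 1 else 0) = quo p d i + (if i ∈ S then 1 else 0) :=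
    fun i => by
    have key : ∀ (x : ℕ) (c : Prop) [Decidable c],
        (x + if c then p else 0) / p = x / p + if c then 1 else 0 := fun x c _ => by
      split_ifs
      · exact Nat.add_div_right x hp0
      · simp
    simp only [quo]
    rw [← key, ← key, hval]
  have hsum' : ∑ i, d' i = Fintype.card α + ∑ i, delta N i := by
    rw [← hμ]
    simp only [hd', shiftUp, Finset.sum_add_distrib, Finset.sum_ite_mem, Finset.univ_inter,
      Finset.sum_const, smul_eq_mul]
    rw [hcard, mul_comm]
  have hgood : Good p (Fintype.card α) w R d' := by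
    refine ⟨hinj, hsum', ?_, by rw [hres]; exact hd.2.2.2⟩
    rw [← hd.2.2.1]
    exact weight_congr hp0 hinj hd.1 (by rw [hres]) (hsum'.trans hd.2.1.symm)
  refine ih (meas p d') ?_ d' rfl hgood
  rw [← hm, meas, meas, hres, ← hg]
  set Z := (Finset.univ : Finset (Fin N)).filter fun i => res p d i = 0 with hZ
  have hTZ : T ⊆ Z := fun i hi =>
    Finset.mem_filter.2 ⟨Finset.mem_univ i, (Finset.mem_filter.1 hi).2.1⟩
  have hZsum : ∑ i ∈ Z, quo p d' i + #T = ∑ i ∈ Z, quo p d i + #(Z ∩ S) := by
    have := Finset.sum_congr rfl (s₁ := Z) fun i _ => hquo i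
    simp only [Finset.sum_add_distrib, Finset.sum_ite_mem, ← Finset.card_eq_sum_ones,
      Finset.inter_eq_right.2 hTZ] at this
    exact this
  obtain ⟨hgN', hgap', hgmin'⟩ := gapOf_spec hp0 d'
  rcases lt_or_ge #(Z ∩ S) #T with hlt | hge
  · have h1 : (∑ i ∈ Z, quo p d' i + 1) * (N + 1) ≤ (∑ i ∈ Z, quo p d i) * (N + 1) :=
      Nat.mul_le_mul_right _ (by omega)
    rw [Nat.add_mul] at h1
    omega
  have hle : #(Z ∩ S) ≤ #S := Finset.card_le_card Finset.inter_subset_right
  have hSZ : S ⊆ Z := by
    have h : Z ∩ S = S := Finset.eq_of_subset_of_card_le Finset.inter_subset_right (by omega)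
    exact h ▸ Finset.inter_subset_left
  have hne : (S \ T).Nonempty := by
    rw [Finset.sdiff_nonempty]
    exact fun h => hST (Finset.eq_of_subset_of_card_le h hcard.ge)
  obtain ⟨i, hi, hmin⟩ := (S \ T).exists_min_image (fun i => quo p d i) hne
  rw [Finset.mem_sdiff] at hi
  have hi0 : res p d i = 0 := (Finset.mem_filter.1 (hSZ hi.1)).2
  have hid : d i = p * quo p d i := by
    have := Nat.mod_add_div (d i) p
    simp only [res, quo] at hi0 ⊢
    omega
  have hilt : quo p d i < g := by
    refine lt_of_le_of_ne (not_lt.1 fun h => hi.2 (Finset.mem_filter.2 ⟨Finset.mem_univ i, hi0, h⟩))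
      fun h => hgap i (by rw [hid, h])
  have hnew : gapOf p d' ≤ quo p d i := by
    refine hgmin' _ fun j hj => ?_
    have hj0 : res p d j = 0 := by
      rw [← hres]
      simp [res, hj]
    have hjq : quo p d' j = quo p d i := by
      simp only [quo] at hj ⊢
      rw [hj, Nat.mul_div_cancel_left _ hp0]
    have h := hquo j
    rw [hjq] at h
    by_cases hjT : j ∈ T
    · have h2 : g < quo p d j := (Finset.mem_filter.1 hjT).2.2
      rw [if_pos hjT] at h
      split_ifs at h <;> omega
    · rw [if_neg hjT] at h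
      by_cases hjS : j ∈ S
      · have := hmin j (Finset.mem_sdiff.2 ⟨hjS, hjT⟩)
        rw [if_pos hjS] at h
        omega
      · rw [if_neg hjS] at h
        have hji : j = i := quo_inj hd.1 j i (hj0.trans hi0.symm) (by omega)
        exact hjS (hji ▸ hi.1)
  have h1 : ∑ i ∈ Z, quo p d' i = ∑ i ∈ Z, quo p d i := by omega
  rw [h1]
  omega

open Classical in
/-- The sorted enumeration of a configuration. -/
noncomputable def enum (S : Finset ℕ) : Fin N → ℕ :=
  if h : #S = N then S.orderEmbOfFin h else 0

theorem finrank_span_le_of_cover (hp : 2 ≤ p) (hN : Fintype.card α ≤ N) (w : ℕ) (R : Multiset ℕ)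
    {F : Finset (Finset ℕ)} (hF : ∀ S, IsFam p R w S → S ∈ F) :
    Module.finrank ℂ (Submodule.span ℂ ((fun e : Fin N → ℕ => (regPart p e : Equiv.Perm α → ℂ)) ''
      {e | Good p (Fintype.card α) w R e})) ≤ #F := by
  classical
  refine le_trans (Submodule.finrank_mono (t := Submodule.span ℂ
    ((F.image fun S => (regPart p (enum S : Fin N → ℕ) : Equiv.Perm α → ℂ)) : Set (Equiv.Perm α → ℂ))) ?_)
    ((finrank_span_finset_le_card _).trans Finset.card_image_le)
  rw [Submodule.span_le]
  rintro _ ⟨d, hd, rfl⟩
  refine Submodule.span_le.2 ?_ (regPart_mem_span hp hN w R hd)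
  rintro _ ⟨e, ⟨he, hG⟩, rfl⟩
  set S := (Finset.univ : Finset (Fin N)).image e with hS
  have hSN : #S = N := by rw [hS, Finset.card_image_of_injective _ he.1, Finset.card_fin]
  have hmem : S ∈ F := by
    refine hF S ⟨?_, hG, ?_⟩
    · rw [hS, Finset.image_val_of_injOn he.1.injOn, Multiset.map_map]
      exact he.2.2.2
    · rw [hS, wt_image he.1]; exact he.2.2.1
  have hmono : StrictMono (e ∘ Tuple.sort e) :=
    (Tuple.monotone_sort e).strictMono_of_injective (he.1.comp (Tuple.sort e).injective)
  have heq : e ∘ Tuple.sort e = enum S := by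
    rw [enum, dif_pos hSN]
    refine (hmono.range_inj (S.orderEmbOfFin hSN).strictMono).1 ?_
    rw [Finset.range_orderEmbOfFin, hS, Set.range_comp, (Tuple.sort e).surjective.range_eq,
      Finset.coe_image, Finset.coe_univ]
  have h := regPart_comp (α := α) (p := p) e (Tuple.sort e)
  rw [heq] at h
  show regPart p e ∈ Submodule.span ℂ _
  have h2 : (regPart p e : Equiv.Perm α → ℂ) =
      ((Equiv.Perm.sign (Tuple.sort e) : ℤ) : ℂ) • regPart p (enum S : Fin N → ℕ) := by
    rw [h, smul_smul]
    rcases Int.units_eq_one_or (Equiv.Perm.sign (Tuple.sort e)) with hsg | hsg <;> simp [hsg]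
  rw [h2]
  exact Submodule.smul_mem _ _ (Submodule.subset_span
    (Finset.mem_coe.2 (Finset.mem_image.2 ⟨S, hmem, rfl⟩)))

theorem finrank_span_le (hp : 2 ≤ p) (hN : Fintype.card α ≤ N) (w : ℕ) (R : Multiset ℕ) :
    Module.finrank ℂ (Submodule.span ℂ ((fun e : Fin N → ℕ => (regPart p e : Equiv.Perm α → ℂ)) ''
      {e | Good p (Fintype.card α) w R e})) ≤ famBound p w := by
  obtain ⟨F, hF, hcard⟩ := exists_fam (show 0 < p by omega) R w
  exact (finrank_span_le_of_cover hp hN w R hF).trans hcard

end H18.SymBlock
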