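import Cfsg.Agent.H18.SymBlock.Content
import Cfsg.Agent.H20.Block
import Cfsg.Agent.H21.NormalClass

/-!
# Characters in one block have equal residues
-/

set_option autoImplicit false
set_option linter.unusedSectionVars false
set_option linter.style.haveILetI false

open Cfsg Finset
open scoped Nat

namespace H18.SymBlock

universe u

variable {N : ℕ} {α : Type u} [Fintype α] [DecidableEq α] {p : ℕ}

/-- The residues of an exponent vector modulo `p`. -/
def cls (p : ℕ) (b : Fin N → ℕ) : Multiset (ZMod p) :=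
  (Finset.univ : Finset (Fin N)).val.map fun i => (b i : ZMod p)

open Classical in
theorem sum_memIdeal_of_sameBlock {G : Type u} [Group G] [Fintype G] {M : Ideal AlgInt} [M.IsPrime]
    {f : G → ℂ} (hf : ∀ g h : G, IsConj g h → f g = f h) (hf2 : ∀ g, MemLocalRing M (f g))
    {ψ ψ' : IrrCharacter G} (hs : SameBlock M (ψ : G → ℂ) (ψ' : G → ℂ)) :
    MemLocalIdeal M (∑ g, f g * ((ψ : G → ℂ) g / (ψ : G → ℂ) 1 - (ψ' : G → ℂ) g / (ψ' : G → ℂ) 1)) := by
  rw [← Finset.sum_fiberwise Finset.univ (ConjClasses.mk (α := G))]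
  refine Finset.sum_induction _ (MemLocalIdeal M) (fun _ _ => H20.memIdeal_add) H20.memIdeal_zero
    fun C _ => ?_
  obtain ⟨g, rfl⟩ := ConjClasses.mk_surjective C
  rw [Finset.sum_congr rfl (g := fun _ => f g * ((ψ : G → ℂ) g / (ψ : G → ℂ) 1 -
    (ψ' : G → ℂ) g / (ψ' : G → ℂ) 1)) fun h hh => by
      have hc : IsConj g h := (ConjClasses.mk_eq_mk_iff_isConj.1 (Finset.mem_filter.1 hh).2).symm
      rw [← hf g h hc, ← H12.IsClassFunction.of_isConj (H12.irr_isClassFunction ψ) hc,
        ← H12.IsClassFunction.of_isConj (H12.irr_isClassFunction ψ') hc],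
    Finset.sum_const, nsmul_eq_mul]
  have hcard : (#{h ∈ (Finset.univ : Finset G) | ConjClasses.mk h = ConjClasses.mk g} : ℕ) =
      (Subgroup.centralizer ({g} : Set G)).index := by
    rw [H21.index_centralizer_eq_card_conj, Nat.card_eq_fintype_card, Fintype.card_subtype]
    congr 1
    ext h
    simp only [Finset.mem_filter, ConjClasses.mk_eq_mk_iff_isConj]
    exact and_congr Iff.rfl isConj_comm
  rw [hcard]
  have := H20.memIdeal_mul (hf2 g) (hs g)
  convert this using 1
  simp only [centralChar]
  ring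

theorem map_contentPoly_eq {M : Ideal AlgInt} [M.IsPrime] (hM : IsPModular p M)
    {b b' : Beta N (Fintype.card α)}
    (hs : SameBlock M (irrOf b : Equiv.Perm α → ℂ) (irrOf b' : Equiv.Perm α → ℂ)) :
    (contentPoly N (b : Fin N → ℕ)).map (Int.castRingHom (ZMod p)) =
      (contentPoly N (b' : Fin N → ℕ)).map (Int.castRingHom (ZMod p)) := by
  classical
  ext m
  rw [Polynomial.coeff_map, Polynomial.coeff_map, eq_intCast, eq_intCast,
    ZMod.intCast_eq_intCast_iff_dvd_sub]
  rw [← H20.intCast_memIdeal_iff hM, Int.cast_sub, coeff_contentPoly b.2, coeff_contentPoly b'.2,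
    ← Finset.sum_sub_distrib]
  have h := sum_memIdeal_of_sameBlock (M := M)
    (f := fun g : Equiv.Perm α => if numOrb g = m then 1 else 0)
    (ψ := irrOf b') (ψ' := irrOf b) ?_ ?_ ?_
  · convert h using 1
    refine Finset.sum_congr rfl fun g _ => ?_
    obtain ⟨ε, hε, hb⟩ := irrOf_spec b
    obtain ⟨η, hη, hb'⟩ := irrOf_spec b'
    have hε0 : ε ≠ 0 := by rcases hε with rfl | rfl <;> norm_num
    have hη0 : η ≠ 0 := by rcases hη with rfl | rfl <;> norm_num
    simp only [hb, hb', Pi.smul_apply, smul_eq_mul, mul_div_mul_left _ _ hε0, mul_div_mul_left _ _ hη0]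
    split_ifs <;> ring
  · intro g g' hgg
    obtain ⟨c, rfl⟩ := isConj_iff.1 hgg
    have : numOrb (c * g * c⁻¹) = numOrb g := by
      refine Nat.card_congr (Quotient.congr c.symm fun a b => ?_)
      exact Equiv.Perm.sameCycle_conj
    simp only [this]
  · intro g
    split_ifs
    · exact ⟨1, 1, H20.one_notMem, by simp⟩
    · exact H20.memRing_of_memIdeal H20.memIdeal_zero
  · intro g
    have := hs g
    have h2 := H20.memIdeal_mul (H20.memRing_intCast (M := M) (-1)) this
    convert h2 using 1
    push_cast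
    ring

theorem map_Ioc_succ (p : ℕ) (i b : ℕ) (h : i ≤ b) :
    ((Finset.Ioc i b).val.map fun k : ℕ => ((k + 1 : ℕ) : ZMod p)) + {((i + 1 : ℕ) : ZMod p)} =
      ((Finset.Ioc i b).val.map fun k : ℕ => (k : ZMod p)) + {((b + 1 : ℕ) : ZMod p)} := by
  induction b, h using Nat.le_induction with
  | base => simp
  | succ b hb ih =>
    rw [← Finset.insert_Ioc_right_eq_Ioc_add_one hb, Finset.insert_val_of_notMem (by simp),
      Multiset.map_cons, Multiset.map_cons, Multiset.cons_add, ih, Multiset.cons_add,
      ← Multiset.singleton_add, ← Multiset.singleton_add]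
    abel

variable (p) in
/-- The residues of the contents, shifted. -/
def resid (b : Fin N → ℕ) : Multiset (ZMod p) :=
  ∑ i : Fin N, (Finset.Ioc (i : ℕ) (b i)).val.map fun k : ℕ => (k : ZMod p)

theorem resid_shift {b : Fin N → ℕ} (hb : StrictMono b) :
    (resid p b).map (fun x => x + 1) + (cls p (delta N)).map (fun x => x + 1) =
      resid p b + (cls p b).map (fun x => x + 1) := by
  have hs : ∀ f : Fin N → ℕ, (cls p f).map (fun x => x + 1) =
      ∑ i : Fin N, ({((f i + 1 : ℕ) : ZMod p)} : Multiset (ZMod p)) := fun f => by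
    rw [cls, Multiset.map_map, Finset.sum_eq_multiset_sum]
    conv_lhs => rw [← Multiset.sum_map_singleton (Multiset.map _ _)]
    rw [Multiset.map_map]
    congr 1
    exact Multiset.map_congr rfl fun i _ => by simp
  rw [hs, hs, resid, ← Multiset.coe_mapAddMonoidHom, map_sum, ← Finset.sum_add_distrib,
    ← Finset.sum_add_distrib]
  refine Finset.sum_congr rfl fun i _ => ?_
  rw [Multiset.coe_mapAddMonoidHom, Multiset.map_map]
  simp only [delta, Function.comp_def]
  rw [← map_Ioc_succ p i (b i) (le_of_strictMono hb i)]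
  simp

theorem cls_eq_of_resid_eq {b b' : Fin N → ℕ} (hb : StrictMono b) (hb' : StrictMono b')
    (h : resid p b = resid p b') : cls p b = cls p b' := by
  have h1 := resid_shift (p := p) hb
  have h2 := resid_shift (p := p) hb'
  rw [h, h2] at h1
  exact (Multiset.map_injective (add_left_injective (1 : ZMod p))) (add_left_cancel h1).symm

theorem cls_eq_of_sameBlock {M : Ideal AlgInt} [M.IsPrime] (hM : IsPModular p M)
    {b b' : Beta N (Fintype.card α)}
    (hs : SameBlock M (irrOf b : Equiv.Perm α → ℂ) (irrOf b' : Equiv.Perm α → ℂ)) :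
    cls p (b : Fin N → ℕ) = cls p (b' : Fin N → ℕ) := by
  haveI : Fact p.Prime := ⟨hM.1⟩
  refine cls_eq_of_resid_eq b.2.1 b'.2.1 ?_
  have key : ∀ c : Fin N → ℕ, (contentPoly N c).map (Int.castRingHom (ZMod p)) =
      ((resid p c).map fun x => Polynomial.X - Polynomial.C ((N : ZMod p) - x)).prod := by
    intro c
    rw [contentPoly, Polynomial.map_prod, resid, ← Multiset.coe_mapAddMonoidHom, map_sum]
    rw [show (∑ x : Fin N, (Multiset.mapAddMonoidHom fun x => Polynomial.X - Polynomial.C ((N : ZMod p) - x))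
      ((Finset.Ioc (x : ℕ) (c x)).val.map fun k : ℕ => (k : ZMod p))).prod = ∏ x : Fin N,
      ((Multiset.mapAddMonoidHom fun x => Polynomial.X - Polynomial.C ((N : ZMod p) - x))
      ((Finset.Ioc (x : ℕ) (c x)).val.map fun k : ℕ => (k : ZMod p))).prod from Multiset.prod_sum _ _]
    refine Finset.prod_congr rfl fun i _ => ?_
    rw [Multiset.coe_mapAddMonoidHom, Multiset.map_map, Polynomial.map_prod, Finset.prod_eq_multiset_prod]
    congr 1
    refine Multiset.map_congr rfl fun k _ => ?_
    simp only [Function.comp_apply, Polynomial.map_add, Polynomial.map_X, Polynomial.map_C,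
      eq_intCast]
    push_cast
    simp
    ring
  have h := map_contentPoly_eq hM hs
  rw [key, key] at h
  have h2 := congrArg Polynomial.roots h
  have hm : ∀ s : Multiset (ZMod p), s.map (fun x => Polynomial.X - Polynomial.C ((N : ZMod p) - x)) =
      (s.map fun x => (N : ZMod p) - x).map fun a => Polynomial.X - Polynomial.C a := fun s => by
    rw [Multiset.map_map]; rfl
  rw [hm, hm, Polynomial.roots_multiset_prod_X_sub_C, Polynomial.roots_multiset_prod_X_sub_C] at h2
  exact Multiset.map_injective sub_right_injective h2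

end H18.SymBlock
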