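import Cfsg.Agent.H18.SymBlock.Series
import Cfsg.Agent.H12.Orth
import Cfsg.Agent.H13.PermChar
import Cfsg.Agent.H16.VChar

/-!
# The irreducible characters of a symmetric group as coefficients of alternants
-/

set_option autoImplicit false
set_option linter.unusedSectionVars false

open Cfsg Finset MvPolynomial
open scoped ComplexConjugate

namespace H18.SymBlock

universe u

variable {N : ℕ} {α : Type u} [Fintype α] [DecidableEq α]

/-- The staircase. -/
def delta (N : ℕ) : Fin N → ℕ := fun i => i

/-- The alternant coefficient function attached to an exponent vector. -/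
noncomputable def chiS (b : Fin N → ℕ) (g : Equiv.Perm α) : ℂ :=
  cf b (altP N ℂ (delta N) * colSum N ℂ g)

open Classical in
theorem chiS_eq_sum (b : Fin N → ℕ) (g : Equiv.Perm α) :
    chiS b g = ∑ π : Equiv.Perm (Fin N), ((Equiv.Perm.sign π : ℤ) : ℂ) *
      if delta N ∘ π ≤ b then cf (b - delta N ∘ π) (colSum N ℂ g) else 0 := by
  rw [chiS, altP, Finset.sum_mul, cf_sum]
  refine Finset.sum_congr rfl fun π _ => ?_
  rw [mul_assoc, show ((Equiv.Perm.sign π : ℤ) : MvPolynomial (Fin N) ℂ) =
    C ((Equiv.Perm.sign π : ℤ) : ℂ) from (map_intCast _ _).symm, cf, coeff_C_mul]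
  congr 1
  exact cf_mono_mul _ _ _

theorem conj_chiS (b : Fin N → ℕ) (g : Equiv.Perm α) : conj (chiS b g) = chiS b g := by
  classical
  simp only [chiS_eq_sum, map_sum, map_mul, map_intCast]
  refine Finset.sum_congr rfl fun π _ => ?_
  split_ifs
  · rw [cf_colSum, map_natCast]
  · rw [map_zero]

theorem cf_colSum_comp (e : Fin N → ℕ) (π : Equiv.Perm (Fin N)) (g : Equiv.Perm α) :
    cf (e ∘ π) (colSum N ℂ g) = cf e (colSum N ℂ g) := by
  classical
  rw [cf_colSum, cf_colSum]
  congr 1
  refine Finset.card_equiv (Equiv.arrowCongr (Equiv.refl α) π) fun c => ?_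
  have hc : ∀ i, cnt (fun a => π (c a)) i = cnt c (π.symm i) := fun i => by
    simp only [cnt]
    congr 1
    ext a
    simp [Equiv.eq_symm_apply]
  simp only [Finset.mem_filter, Finset.mem_univ, true_and, funext_iff, Function.comp_apply,
    Equiv.arrowCongr_apply, Equiv.refl_symm, Equiv.refl_apply, EmbeddingLike.apply_eq_iff_eq]
  refine and_congr Iff.rfl ⟨fun h i => ?_, fun h i => ?_⟩
  · show cnt (fun a => π (c a)) i = _
    rw [hc, h, Equiv.apply_symm_apply]
  · have := h (π i)
    change cnt (fun a => π (c a)) (π i) = _ at this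
    rw [hc, Equiv.symm_apply_apply] at this
    exact this

theorem chiS_comp (b : Fin N → ℕ) (π : Equiv.Perm (Fin N)) (g : Equiv.Perm α) :
    chiS (b ∘ π) g = ((Equiv.Perm.sign π : ℤ) : ℂ) * chiS b g := by
  classical
  rw [chiS_eq_sum, chiS_eq_sum, Finset.mul_sum]
  refine (Fintype.sum_equiv (Equiv.mulRight π) _ _ fun σ => ?_).symm
  rw [Equiv.coe_mulRight, map_mul, Units.val_mul, Int.cast_mul, Equiv.Perm.coe_mul,
    ← Function.comp_assoc]
  have hle : (delta N ∘ σ) ∘ π ≤ b ∘ π ↔ delta N ∘ σ ≤ b :=
    ⟨fun h i => by simpa using h (π.symm i), fun h i => h (π i)⟩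
  by_cases h : delta N ∘ σ ≤ b
  · rw [if_pos h, if_pos (hle.2 h),
      show b ∘ π - (delta N ∘ σ) ∘ π = (b - delta N ∘ σ) ∘ π from rfl, cf_colSum_comp]
    ring
  · rw [if_neg h, if_neg fun h' => h (hle.1 h')]
    ring

theorem chiS_eq_zero {b : Fin N → ℕ} (hb : ¬ Function.Injective b) (g : Equiv.Perm α) :
    chiS b g = 0 := by
  rw [Function.Injective] at hb
  push Not at hb
  obtain ⟨i, j, hij, hne⟩ := hb
  have h := chiS_comp b (Equiv.swap i j) g
  rw [show b ∘ Equiv.swap i j = b from Equiv.comp_swap_eq_update i j b ▸ by simp [hij],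
    Equiv.Perm.sign_swap hne] at h
  push_cast at h
  linear_combination h / 2

theorem chiS_conj (b : Fin N → ℕ) (g h : Equiv.Perm α) : chiS b (h * g * h⁻¹) = chiS b g := by
  rw [chiS, chiS, colSum_conj]

/-- The action of a symmetric group on the colourings with given colour counts. -/
@[instance_reducible]
noncomputable def colourAction (e : Fin N → ℕ) :
    MulAction (Equiv.Perm α) {c : α → Fin N // cnt c = e} where
  smul g c := ⟨(c : α → Fin N) ∘ ⇑(g⁻¹), by rw [cnt_comp_equiv]; exact c.2⟩
  one_smul c := Subtype.ext (funext fun a => rfl)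
  mul_smul g h c := Subtype.ext (funext fun a => by
    show (c : α → Fin N) ((g * h)⁻¹ a) = (c : α → Fin N) (h⁻¹ (g⁻¹ a))
    rw [mul_inv_rev]; rfl)

theorem isCharacter_cf_colSum (e : Fin N → ℕ) :
    IsCharacter (Equiv.Perm α) (fun g => cf e (colSum N ℂ g)) := by
  classical
  letI := colourAction (α := α) e
  have h := H12.isCharacter_character (permRep ℂ (Equiv.Perm α) {c : α → Fin N // cnt c = e})
  convert h using 1
  funext g
  rw [H13.permRep_character, cf_colSum, Nat.card_eq_fintype_card, Fintype.card_subtype]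
  congr 1
  symm
  refine Finset.card_bij (fun c _ => (c : α → Fin N)) (fun c hc => ?_)
    (fun c _ d _ hcd => Subtype.ext hcd) (fun c hc => ?_)
  · simp only [Finset.mem_filter, Finset.mem_univ, true_and, MulAction.mem_fixedBy] at hc ⊢
    refine ⟨?_, c.2⟩
    have h2 : (c : α → Fin N) ∘ ⇑g⁻¹ = c := congrArg Subtype.val hc
    conv_lhs => rw [← h2]
    funext a
    simp
  · simp only [Finset.mem_filter, Finset.mem_univ, true_and] at hc
    refine ⟨⟨c, hc.2⟩, ?_, rfl⟩
    simp only [Finset.mem_filter, Finset.mem_univ, true_and, MulAction.mem_fixedBy]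
    refine Subtype.ext ?_
    show c ∘ ⇑g⁻¹ = c
    conv_lhs => rw [← hc.1]
    funext a
    simp

theorem isGeneralized_chiS (b : Fin N → ℕ) :
    IsGeneralizedCharacter (Equiv.Perm α) (chiS b) := by
  classical
  rw [H12.isGeneralizedCharacter_iff]
  refine ⟨fun g h => chiS_conj b g h, fun χ => ?_⟩
  choose m hm using fun π : Equiv.Perm (Fin N) =>
    H12.IsCharacter.classInner_nat (isCharacter_cf_colSum (α := α) (b - delta N ∘ π)) (H12.isCharacter_irr χ)
  refine ⟨∑ π : Equiv.Perm (Fin N),
    if delta N ∘ π ≤ b then (Equiv.Perm.sign π : ℤ) * (m π : ℤ) else 0, ?_⟩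
  rw [show chiS (α := α) b = ∑ π : Equiv.Perm (Fin N),
    ((if delta N ∘ π ≤ b then ((Equiv.Perm.sign π : ℤ) : ℂ) else 0) •
      fun g => cf (b - delta N ∘ π) (colSum N ℂ g)) from funext fun g => by
      rw [chiS_eq_sum, Finset.sum_apply]
      exact Finset.sum_congr rfl fun π _ => by simp [mul_ite, ite_mul],
    H12.classInner_sum_left, Int.cast_sum]
  refine Finset.sum_congr rfl fun π _ => ?_
  rw [H12.classInner_smul_left, hm]
  split_ifs <;> push_cast <;> ring

open Classical in
/-- The orthogonality relation. -/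
theorem sum_chiS_mul {b b' : Fin N → ℕ} (hb : StrictMono b) (hb' : StrictMono b')
    (hsum : ∑ i, b' i = Fintype.card α + ∑ i, delta N i) :
    ∑ g : Equiv.Perm α, chiS b g * chiS b' g =
      if b = b' then ((Fintype.card α).factorial : ℂ) else 0 := by
  have key : ∀ g : Equiv.Perm α, chiS b g * chiS b' g = cf b (altP N ℂ (delta N) *
      ∑ π : Equiv.Perm (Fin N), C ((Equiv.Perm.sign π : ℤ) : ℂ) *
        (if delta N ∘ π ≤ b' then C (cf (b' - delta N ∘ π) (colSum N ℂ g)) * colSum N ℂ g else 0)) := by
    intro g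
    rw [Finset.mul_sum, cf_sum, chiS_eq_sum b' g, Finset.mul_sum]
    refine Finset.sum_congr rfl fun π _ => ?_
    simp only [chiS, cf]
    split_ifs
    · rw [mul_left_comm (altP N ℂ (delta N)), coeff_C_mul, mul_left_comm (altP N ℂ (delta N)),
        coeff_C_mul]
      ring
    · simp
  rw [Finset.sum_congr rfl fun g _ => key g, ← cf_sum, ← Finset.mul_sum, Finset.sum_comm]
  have inner : ∀ π : Equiv.Perm (Fin N),
      ∑ g : Equiv.Perm α, C ((Equiv.Perm.sign π : ℤ) : ℂ) *
        (if delta N ∘ π ≤ b' then C (cf (b' - delta N ∘ π) (colSum N ℂ g)) * colSum N ℂ g else 0) =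
      C ((Fintype.card α).factorial : ℂ) * (((Equiv.Perm.sign π : ℤ) : MvPolynomial (Fin N) ℂ) *
        ∏ i, jtMat N ℂ b' i (π i)) := by
    intro π
    rw [← Finset.mul_sum, map_intCast, map_natCast, mul_left_comm ((Fintype.card α).factorial : MvPolynomial (Fin N) ℂ)]
    congr 1
    by_cases h : delta N ∘ π ≤ b'
    · simp only [if_pos h]
      rw [sum_cf_mul_colSum, if_pos]
      · congr 1
        refine Finset.prod_congr rfl fun i _ => ?_
        simp only [jtMat, Matrix.of_apply]
        rw [if_pos (show ((π i : Fin N) : ℕ) ≤ b' i from h i)]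
        rfl
      · have h1 : ∑ i, (b' - delta N ∘ π) i + ∑ i, delta N (π i) = ∑ i, b' i := by
          rw [← Finset.sum_add_distrib]
          exact Finset.sum_congr rfl fun i _ => Nat.sub_add_cancel (h i)
        rw [Equiv.sum_comp π (delta N), hsum] at h1
        omega
    · simp only [if_neg h, Finset.sum_const_zero]
      obtain ⟨i, hi⟩ := not_forall.1 h
      rw [Finset.prod_eq_zero (Finset.mem_univ i)
        (show jtMat N ℂ b' i (π i) = 0 from if_neg hi), mul_zero]
  rw [Finset.sum_congr rfl fun π _ => inner π, ← Finset.mul_sum, mul_left_comm,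
    show (∑ π : Equiv.Perm (Fin N), ((Equiv.Perm.sign π : ℤ) : MvPolynomial (Fin N) ℂ) *
      ∏ i, jtMat N ℂ b' i (π i)) = (jtMat N ℂ b').det from ?_, ← show altP N ℂ b' =
      altP N ℂ (delta N) * (jtMat N ℂ b').det from altP_eq b', cf, coeff_C_mul]
  · show _ * cf b (altP N ℂ b') = _
    rw [cf_altP, Finset.sum_eq_single 1]
    · by_cases h : b = b' <;> simp [h, eq_comm]
    · intro π _ hπ
      rw [if_neg]
      intro heq
      apply hπ
      have hmono : StrictMono (π : Fin N → Fin N) := fun i j hij => by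
        have := hb hij
        rw [← heq] at this
        exact hb'.lt_iff_lt.1 this
      refine Equiv.ext fun i => congrFun ((hmono.range_inj strictMono_id).1 ?_) i
      rw [Set.range_id, π.surjective.range_eq]
    · simp
  · rw [← Matrix.det_transpose, Matrix.det_apply']
    rfl

theorem classInner_chiS {b b' : Fin N → ℕ} (hb : StrictMono b) (hb' : StrictMono b')
    (hsum : ∑ i, b' i = Fintype.card α + ∑ i, delta N i) [Decidable (b = b')] :
    classInner (chiS (α := α) b) (chiS b') = if b = b' then 1 else 0 := by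
  rw [H12.classInner_def]
  simp only [conj_chiS]
  rw [sum_chiS_mul hb hb' hsum, Nat.card_eq_fintype_card, Fintype.card_perm]
  have h0 : ((Fintype.card α).factorial : ℂ) ≠ 0 := by exact_mod_cast Nat.factorial_ne_zero _
  split_ifs
  · rw [inv_mul_cancel₀ h0]
  · rw [mul_zero]

/-- Exponent vectors indexing the irreducible characters in degree `n`. -/
def IsBeta (n : ℕ) (b : Fin N → ℕ) : Prop :=
  StrictMono b ∧ ∑ i, b i = n + ∑ i, delta N i

variable (N) in
/-- The exponent vectors in degree `n`. -/
abbrev Beta (n : ℕ) : Type := {b : Fin N → ℕ // IsBeta n b}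

instance instFiniteBeta (n : ℕ) : Finite (Beta N n) := by
  refine Finite.of_injective (β := Fin N → Fin (n + (∑ i, delta N i) + 1))
    (fun b i => ⟨(b : Fin N → ℕ) i, ?_⟩) (fun b c h => Subtype.ext (funext fun i => by
      simpa using congrFun h i))
  have := Finset.single_le_sum (f := fun j => (b : Fin N → ℕ) j) (fun _ _ => Nat.zero_le _)
    (Finset.mem_univ i)
  have h2 := b.2.2
  omega

theorem exists_irr (b : Beta N (Fintype.card α)) :
    ∃ (ψ : IrrCharacter (Equiv.Perm α)) (ε : ℂ), (ε = 1 ∨ ε = -1) ∧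
      (ψ : Equiv.Perm α → ℂ) = ε • chiS (b : Fin N → ℕ) := by
  classical
  rcases H16.norm_one (isGeneralized_chiS (α := α) (b : Fin N → ℕ))
    (by rw [classInner_chiS b.2.1 b.2.1 b.2.2, if_pos rfl]) with h | h
  · exact ⟨⟨_, h⟩, 1, Or.inl rfl, by simp⟩
  · exact ⟨⟨_, h⟩, -1, Or.inr rfl, by simp⟩

/-- The irreducible character of an exponent vector. -/
noncomputable def irrOf (b : Beta N (Fintype.card α)) : IrrCharacter (Equiv.Perm α) :=
  (exists_irr b).choose

theorem irrOf_spec (b : Beta N (Fintype.card α)) :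
    ∃ ε : ℂ, (ε = 1 ∨ ε = -1) ∧
      (irrOf b : Equiv.Perm α → ℂ) = ε • chiS (b : Fin N → ℕ) :=
  (exists_irr b).choose_spec

theorem irrOf_injective :
    Function.Injective (irrOf : Beta N (Fintype.card α) → IrrCharacter (Equiv.Perm α)) := by
  classical
  intro b c h
  obtain ⟨ε, hε, hb⟩ := irrOf_spec b
  obtain ⟨η, hη, hc⟩ := irrOf_spec c
  by_contra hne
  have h0 : classInner (irrOf b : Equiv.Perm α → ℂ) (irrOf c) = 0 := by
    rw [hb, hc, H12.classInner_smul_left, H12.classInner_smul_right,
      classInner_chiS b.2.1 c.2.1 c.2.2, if_neg fun e => hne (Subtype.ext e), mul_zero, mul_zero]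
  rw [h, H12.classInner_irr_self] at h0
  exact one_ne_zero h0

/-- An exponent vector attached to a partition. -/
noncomputable def betaOfParts (s : Multiset ℕ) : Fin N → ℕ := fun i =>
  ((s + Multiset.replicate (N - s.card) 0).sort (· ≤ ·)).getD i 0 + i

theorem card_partition_le (n : ℕ) (hN : n ≤ N) :
    Nat.card n.Partition ≤ Nat.card (Beta N n) := by
  have hcard : ∀ q : n.Partition, q.parts.card ≤ N := fun q => by
    refine le_trans ?_ hN
    have := Multiset.card_nsmul_le_sum (fun x hx => q.parts_pos hx) (a := 1)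
    simpa [q.parts_sum] using this
  have hlen : ∀ q : n.Partition,
      ((q.parts + Multiset.replicate (N - q.parts.card) 0).sort (· ≤ ·)).length = N := fun q => by
    rw [Multiset.length_sort, Multiset.card_add, Multiset.card_replicate]
    have := hcard q
    omega
  refine Nat.card_le_card_of_injective (fun q => ⟨betaOfParts q.parts, ?_, ?_⟩) ?_
  · intro i j hij
    simp only [betaOfParts]
    have hi : (i : ℕ) < ((q.parts + Multiset.replicate (N - q.parts.card) 0).sort (· ≤ ·)).length := by
      rw [hlen q]; exact i.2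
    have hj : (j : ℕ) < ((q.parts + Multiset.replicate (N - q.parts.card) 0).sort (· ≤ ·)).length := by
      rw [hlen q]; exact j.2
    rw [List.getD_eq_getElem _ _ hi, List.getD_eq_getElem _ _ hj]
    have := (Multiset.pairwise_sort _ (· ≤ ·)).rel_get_of_le (a := ⟨i, hi⟩) (b := ⟨j, hj⟩) (le_of_lt hij)
    simp only [List.get_eq_getElem] at this
    have h2 : (i : ℕ) < j := hij
    omega
  · simp only [betaOfParts, Finset.sum_add_distrib, delta]
    congr 1
    rw [← List.sum_ofFn]
    refine (congrArg List.sum (List.ext_getElem (l₂ := (q.parts +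
      Multiset.replicate (N - q.parts.card) 0).sort (· ≤ ·)) (by simp [hlen q]) fun k h1 h2 => ?_)).trans ?_
    · rw [List.getElem_ofFn]
      exact List.getD_eq_getElem _ _ h2
    rw [← Multiset.sum_coe, Multiset.sort_eq, Multiset.sum_add]
    simp [q.parts_sum]
  · intro q r h
    have h1 := congrArg Subtype.val h
    have h2 : (q.parts + Multiset.replicate (N - q.parts.card) 0).sort (· ≤ ·) =
        (r.parts + Multiset.replicate (N - r.parts.card) 0).sort (· ≤ ·) := by
      refine List.ext_getElem (by rw [hlen q, hlen r]) fun k hk hk' => ?_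
      have := congrFun h1 ⟨k, by rwa [hlen q] at hk⟩
      simp only [betaOfParts, List.getD_eq_getElem _ _ hk, List.getD_eq_getElem _ _ hk'] at this
      omega
    have h3 := congrArg (fun l : List ℕ => (l : Multiset ℕ).filter (fun x => 0 < x)) h2
    simp only [Multiset.sort_eq, Multiset.filter_add] at h3
    have hf : ∀ q : n.Partition, q.parts.filter (fun x => 0 < x) = q.parts := fun q =>
      Multiset.filter_eq_self.2 fun x hx => q.parts_pos hx
    rw [hf, hf] at h3
    simpa [Nat.Partition.ext_iff, Multiset.filter_eq_nil.2, Multiset.mem_replicate] using h3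

theorem irrOf_bijective (hN : Fintype.card α ≤ N) :
    Function.Bijective (irrOf : Beta N (Fintype.card α) → IrrCharacter (Equiv.Perm α)) := by
  refine irrOf_injective.bijective_of_nat_card_le ?_
  rw [H12.card_irrCharacter]
  refine le_trans ?_ (card_partition_le _ hN)
  refine Nat.card_le_card_of_injective (fun C => C.out.partition) fun C D h => ?_
  rw [← Quotient.out_eq C, ← Quotient.out_eq D]
  exact Quotient.sound (Equiv.Perm.partition_eq_of_isConj.2 h)

open Classical in
/-- Column orthogonality. -/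
theorem sum_chiS_chiS [Fintype (Beta N (Fintype.card α))] (hN : Fintype.card α ≤ N)
    {g h : Equiv.Perm α} (hgh : ¬ IsConj g h) :
    ∑ b : Beta N (Fintype.card α), chiS (b : Fin N → ℕ) g * chiS (b : Fin N → ℕ) h = 0 := by
  have h1 := H12.column_orthogonality g h
  rw [if_neg hgh] at h1
  rw [← h1]
  refine Fintype.sum_bijective irrOf (irrOf_bijective hN) _ _ fun b => ?_
  obtain ⟨ε, hε, hb⟩ := irrOf_spec b
  rw [hb, Pi.smul_apply, Pi.smul_apply, smul_eq_mul, smul_eq_mul, map_mul, conj_chiS]
  rcases hε with rfl | rfl <;> simp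

end H18.SymBlock
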