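import Mathlib

/-!
# Colourings of a permuted finite set and symmetric polynomials

`SymBlock.colSum N g` is the sum of `x^c` over the colourings `c` fixed by `g`: the product of the
power sums of the cycle lengths of `g`.
-/

set_option autoImplicit false
set_option linter.unusedSectionVars false

open Finset MvPolynomial

namespace H18.SymBlock

universe u v

variable {N : ℕ} {R : Type*} [CommRing R]

/-- The monomial with exponent vector `e`. -/
noncomputable def mono (R : Type*) [CommRing R] (e : Fin N → ℕ) : MvPolynomial (Fin N) R :=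
  monomial (Finsupp.equivFunOnFinite.symm e) 1

/-- The coefficient at the exponent vector `b`. -/
noncomputable def cf (b : Fin N → ℕ) (F : MvPolynomial (Fin N) R) : R :=
  coeff (Finsupp.equivFunOnFinite.symm b) F

theorem mono_eq_prod (e : Fin N → ℕ) : mono R e = ∏ i, X i ^ e i := by
  rw [mono, monomial_eq, map_one, one_mul, Finsupp.prod_fintype]
  · rfl
  · intro i; rw [pow_zero]

theorem cf_sum {ι : Type*} (s : Finset ι) (F : ι → MvPolynomial (Fin N) R) (b : Fin N → ℕ) :
    cf b (∑ i ∈ s, F i) = ∑ i ∈ s, cf b (F i) := coeff_sum _ _ _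

theorem cf_mono (e b : Fin N → ℕ) : cf b (mono R e) = if e = b then 1 else 0 := by
  classical
  rw [cf, mono, coeff_monomial]
  simp [Finsupp.equivFunOnFinite.symm.injective.eq_iff]

theorem cf_mono_mul (e b : Fin N → ℕ) (F : MvPolynomial (Fin N) R) [Decidable (e ≤ b)] :
    cf b (mono R e * F) = if e ≤ b then cf (b - e) F else 0 := by
  rw [cf, mono, coeff_monomial_mul', one_mul]
  have h : Finsupp.equivFunOnFinite.symm e ≤ Finsupp.equivFunOnFinite.symm b ↔ e ≤ b := Iff.rfl
  have h2 : Finsupp.equivFunOnFinite.symm b - Finsupp.equivFunOnFinite.symm e =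
      Finsupp.equivFunOnFinite.symm (b - e) := by ext i; simp
  simp only [h, h2]
  exact if_congr Iff.rfl rfl rfl

/-- How often each colour is used. -/
def cnt {α : Type u} [Fintype α] {κ : Type v} [DecidableEq κ] (c : α → κ) (i : κ) : ℕ :=
  #{a : α | c a = i}

theorem cnt_comp_equiv {α β : Type u} [Fintype α] [Fintype β] {κ : Type v} [DecidableEq κ]
    (c : α → κ) (e : β ≃ α) : cnt (c ∘ e) = cnt c := by
  funext i
  refine Finset.card_bij (fun a _ => e a) (fun a ha => ?_) (fun a _ b _ h => e.injective h)
    (fun b hb => ⟨e.symm b, ?_, by simp⟩)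
  · simpa using ha
  · simpa using hb

theorem sum_cnt {α : Type u} [Fintype α] {κ : Type v} [Fintype κ] [DecidableEq κ] (c : α → κ) :
    ∑ i, cnt c i = Fintype.card α :=
  (Finset.card_eq_sum_card_fiberwise (fun a _ => Finset.mem_univ (c a))).symm

theorem prod_X_eq_mono {α : Type u} [Fintype α] (c : α → Fin N) :
    (∏ a, X (c a) : MvPolynomial (Fin N) R) = mono R (cnt c) := by
  classical
  rw [mono_eq_prod, ← Finset.prod_fiberwise_of_maps_to (t := Finset.univ) (g := c)
    (fun a _ => Finset.mem_univ (c a))]
  refine Finset.prod_congr rfl fun i _ => ?_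
  rw [Finset.prod_congr rfl fun a ha => by rw [(Finset.mem_filter.1 ha).2], Finset.prod_const, cnt]

variable (N R) in
/-- The sum of the colourings fixed by `g`. -/
noncomputable def colSum {α : Type u} [Fintype α] [DecidableEq α] (g : Equiv.Perm α) :
    MvPolynomial (Fin N) R :=
  ∑ c ∈ Finset.univ.filter (fun c : α → Fin N => c ∘ g = c), ∏ a, X (c a)

theorem rename_colSum {α : Type u} [Fintype α] [DecidableEq α] (g : Equiv.Perm α)
    (π : Equiv.Perm (Fin N)) : rename π (colSum N R g) = colSum N R g := by
  simp only [colSum, map_sum, map_prod, rename_X]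
  refine Finset.sum_equiv (Equiv.arrowCongr (Equiv.refl α) π) (fun c => ?_) (fun c _ => rfl)
  simp [funext_iff]

theorem colSum_congr {α : Type u} {β : Type v} [Fintype α] [DecidableEq α] [Fintype β] [DecidableEq β]
    (e : α ≃ β) (g : Equiv.Perm α) : colSum N R (e.permCongr g) = colSum N R g := by
  simp only [colSum]
  refine Finset.sum_equiv (Equiv.arrowCongr e.symm (Equiv.refl _)) (fun c => ?_) (fun c _ => ?_)
  · simp only [Finset.mem_filter, Finset.mem_univ, true_and, funext_iff, Function.comp_apply,
      Equiv.permCongr_apply, Equiv.arrowCongr_apply, Equiv.refl_apply, Equiv.symm_symm]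
    constructor
    · intro h a
      simpa using h (e a)
    · intro h b
      simpa using h (e.symm b)
  · exact (Fintype.prod_equiv e _ _ fun a => by simp).symm

theorem colSum_conj {α : Type u} [Fintype α] [DecidableEq α] (g h : Equiv.Perm α) :
    colSum N R (h * g * h⁻¹) = colSum N R g := by
  rw [← colSum_congr h g]
  rfl

theorem colSum_sumCongr {α β : Type u} [Fintype α] [DecidableEq α] [Fintype β] [DecidableEq β]
    (g : Equiv.Perm α) (h : Equiv.Perm β) :
    colSum N R (Equiv.sumCongr g h) = colSum N R g * colSum N R h := by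
  simp only [colSum]
  rw [Finset.sum_mul_sum, ← Finset.sum_product']
  refine Finset.sum_equiv (Equiv.sumArrowEquivProdArrow α β (Fin N)) (fun c => ?_) (fun c _ => ?_)
  · simp [funext_iff]
  · simp [Fintype.prod_sum_type]

theorem colSum_transitive {α : Type u} [Fintype α] [DecidableEq α] [Nonempty α] (g : Equiv.Perm α)
    (hg : ∀ c : α → Fin N, c ∘ g = c → ∀ a b, c a = c b) :
    colSum N R g = psum (Fin N) R (Fintype.card α) := by
  rw [colSum, psum]
  symm
  refine Finset.sum_nbij (fun i => fun _ : α => i) (fun i _ => ?_) (fun i _ j _ h => ?_)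
    (fun c hc => ?_) (fun i _ => ?_)
  · simp; rfl
  · exact congrFun h (Classical.arbitrary α)
  · refine ⟨c (Classical.arbitrary α), by simp, funext fun a => ?_⟩
    exact hg c (by simpa using hc) _ _
  · simp

theorem colSum_finRotate (m : ℕ) :
    colSum N R (finRotate (m + 1)) = psum (Fin N) R (m + 1) := by
  rw [colSum_transitive, Fintype.card_fin]
  intro c hc
  have h : ∀ a : Fin (m + 1), c (a + 1) = c a := fun a => by
    have := congrFun hc a
    simpa [finRotate_apply] using this
  have h0 : ∀ k : ℕ, ∀ hk : k < m + 1, c ⟨k, hk⟩ = c 0 := by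
    intro k
    induction k with
    | zero => intro _; rfl
    | succ k ih =>
      intro hk
      rw [← ih (by omega), ← h ⟨k, by omega⟩]
      congr 1
      apply Fin.ext
      simp [Fin.val_add, Nat.mod_eq_of_lt hk]
  intro a b
  rw [h0 a a.2, h0 b b.2]

theorem colSum_one {α : Type u} [Fintype α] [DecidableEq α] :
    colSum N R (1 : Equiv.Perm α) = (∑ i, X i) ^ Fintype.card α := by
  rw [colSum, Finset.filter_true_of_mem (fun c _ => by simp), ← Fintype.prod_sum,
    Finset.prod_const, Finset.card_univ]

section Burnside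

variable {α : Type u} [Fintype α] [DecidableEq α] {κ : Type v} [Fintype κ] [DecidableEq κ]

theorem exists_of_cnt (e : κ → ℕ) (he : ∑ i, e i = Fintype.card α) : ∃ c : α → κ, cnt c = e := by
  obtain ⟨ψ⟩ : Nonempty (α ≃ Σ i, Fin (e i)) := ⟨Fintype.equivOfCardEq (by simp [he])⟩
  refine ⟨fun a => (ψ a).1, funext fun i => ?_⟩
  rw [cnt, ← Fintype.card_subtype]
  rw [Fintype.card_congr ((ψ.subtypeEquiv fun a => Iff.rfl).trans (Equiv.sigmaSubtype i) :
    {a : α // (ψ a).1 = i} ≃ Fin (e i)), Fintype.card_fin]

theorem card_stab (c : α → κ) :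
    #{g : Equiv.Perm α | c ∘ g = c} = ∏ i, (cnt c i).factorial := by
  rw [← Fintype.card_subtype, DomMulAct.stabilizer_card]
  exact Finset.prod_congr rfl fun i _ => by rw [Fintype.card_subtype]; rfl

theorem exists_perm_of_cnt {c d : α → κ} (h : cnt c = cnt d) : ∃ g : Equiv.Perm α, c ∘ g = d := by
  have hk : ∀ i, Nonempty ({a // d a = i} ≃ {a // c a = i}) := fun i =>
    ⟨Fintype.equivOfCardEq (by rw [Fintype.card_subtype, Fintype.card_subtype]; exact (congrFun h i).symm)⟩
  refine ⟨Equiv.ofFiberEquiv (fun i => Classical.choice (hk i)), funext fun a => ?_⟩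
  exact Equiv.ofFiberEquiv_map _ a

theorem card_cnt_mul (e : κ → ℕ) (he : ∑ i, e i = Fintype.card α) :
    #{c : α → κ | cnt c = e} * ∏ i, (e i).factorial = (Fintype.card α).factorial := by
  obtain ⟨c₀, hc₀⟩ := exists_of_cnt e he
  have hcard : #(Finset.univ : Finset (Equiv.Perm α)) = (Fintype.card α).factorial := by
    rw [Finset.card_univ, Fintype.card_perm]
  rw [← hcard, Finset.card_eq_sum_card_fiberwise (f := fun g : Equiv.Perm α => c₀ ∘ g)
    (t := Finset.univ.filter fun c : α → κ => cnt c = e)
    (fun g _ => by simp [cnt_comp_equiv, hc₀])]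
  rw [Finset.sum_const_nat]
  intro d hd
  rw [Finset.mem_filter] at hd
  obtain ⟨g₀, hg₀⟩ := exists_perm_of_cnt (hc₀.trans hd.2.symm)
  rw [← hc₀, ← card_stab c₀]
  refine Finset.card_equiv (Equiv.mulRight g₀⁻¹) fun g => ?_
  simp only [Finset.mem_filter, Finset.mem_univ, true_and, Equiv.coe_mulRight, Equiv.Perm.coe_mul]
  constructor
  · intro hg
    rw [← Function.comp_assoc, hg, ← hg₀, Function.comp_assoc, ← Equiv.Perm.coe_mul,
      mul_inv_cancel, Equiv.Perm.coe_one, Function.comp_id]
  · intro hg
    rw [← Function.comp_assoc] at hg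
    funext a
    have := congrFun hg (g₀ a)
    simpa [← hg₀] using this

/-- Averaging over the fixed colourings is summing over the colour counts. -/
theorem sum_stab {S : Type*} [CommRing S] (F : (κ → ℕ) → S) :
    ∑ c : α → κ, (#{g : Equiv.Perm α | c ∘ g = c} : S) * F (cnt c) =
      ((Fintype.card α).factorial : S) * ∑ e ∈ Finset.piAntidiag Finset.univ (Fintype.card α), F e := by
  rw [← Finset.sum_fiberwise_of_maps_to (t := Finset.piAntidiag Finset.univ (Fintype.card α))
    (g := fun c : α → κ => cnt c) (fun c _ => by simp [Finset.mem_piAntidiag, sum_cnt]),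
    Finset.mul_sum]
  refine Finset.sum_congr rfl fun e he => ?_
  rw [Finset.mem_piAntidiag] at he
  rw [Finset.sum_congr rfl (g := fun _ => ((∏ i, (e i).factorial : ℕ) : S) * F e) fun c hc => by
    rw [Finset.mem_filter] at hc
    rw [card_stab, hc.2]]
  rw [Finset.sum_const, nsmul_eq_mul, ← mul_assoc, ← Nat.cast_mul, card_cnt_mul e he.1]

end Burnside

/-- The complete homogeneous polynomial. -/
noncomputable def hpoly (N : ℕ) (R : Type*) [CommRing R] (m : ℕ) : MvPolynomial (Fin N) R :=
  ∑ e ∈ Finset.piAntidiag (Finset.univ : Finset (Fin N)) m, mono R e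

theorem sum_colSum {α : Type u} [Fintype α] [DecidableEq α] :
    ∑ g : Equiv.Perm α, colSum N R g =
      ((Fintype.card α).factorial : MvPolynomial (Fin N) R) * hpoly N R (Fintype.card α) := by
  rw [hpoly, ← sum_stab (α := α) (fun e => mono R e)]
  simp only [colSum, Finset.sum_filter]
  rw [Finset.sum_comm]
  refine Finset.sum_congr rfl fun c _ => ?_
  rw [← Finset.sum_filter, Finset.sum_const, nsmul_eq_mul, prod_X_eq_mono]

theorem cf_colSum {α : Type u} [Fintype α] [DecidableEq α] (g : Equiv.Perm α) (b : Fin N → ℕ) :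
    cf b (colSum N R g) = (#{c : α → Fin N | c ∘ g = c ∧ cnt c = b} : R) := by
  rw [colSum, cf_sum, ← Finset.filter_filter, Finset.card_filter, Nat.cast_sum]
  refine Finset.sum_congr rfl fun c _ => ?_
  rw [prod_X_eq_mono, cf_mono]
  split_ifs <;> simp

/-- The twisted average that produces products of complete polynomials. -/
theorem sum_cf_mul_colSum {α : Type u} [Fintype α] [DecidableEq α] (b : Fin N → ℕ) :
    ∑ g : Equiv.Perm α, C (cf b (colSum N R g)) * colSum N R g =
      if ∑ i, b i = Fintype.card α then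
        ((Fintype.card α).factorial : MvPolynomial (Fin N) R) * ∏ j, hpoly N R (b j)
      else 0 := by
  classical
  have h1 : ∀ g : Equiv.Perm α, C (cf b (colSum N R g)) * colSum N R g =
      ∑ f : α → Fin N × Fin N, if f ∘ g = f then
        (if (fun j => ∑ i, cnt f (j, i)) = b then mono R (fun i => ∑ j, cnt f (j, i)) else 0) else 0 := by
    intro g
    have hrow : ∀ (f : α → Fin N × Fin N),
        (fun j => ∑ i, cnt f (j, i)) = cnt (Prod.fst ∘ f) ∧
        (fun i => ∑ j, cnt f (j, i)) = cnt (Prod.snd ∘ f) := by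
      intro f
      constructor
      · funext j
        rw [cnt, Finset.card_eq_sum_card_fiberwise (f := fun a => (f a).2) (t := Finset.univ)
          (fun a _ => Finset.mem_univ _)]
        refine Finset.sum_congr rfl fun i _ => ?_
        rw [cnt, Finset.filter_filter]
        congr 1
        ext a
        simp [Prod.ext_iff]
      · funext i
        rw [cnt, Finset.card_eq_sum_card_fiberwise (f := fun a => (f a).1) (t := Finset.univ)
          (fun a _ => Finset.mem_univ _)]
        refine Finset.sum_congr rfl fun j _ => ?_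
        rw [cnt, Finset.filter_filter]
        congr 1
        ext a
        simp [Prod.ext_iff, and_comm]
    rw [cf_colSum, Finset.card_filter, Nat.cast_sum, map_sum, colSum, Finset.sum_filter,
      Finset.sum_mul_sum, ← Fintype.sum_prod_type']
    refine Fintype.sum_equiv (Equiv.arrowProdEquivProdArrow α (fun _ => Fin N) (fun _ => Fin N)).symm
      _ _ fun cd => ?_
    obtain ⟨c, d⟩ := cd
    set f := (Equiv.arrowProdEquivProdArrow α (fun _ => Fin N) (fun _ => Fin N)).symm (c, d) with hf
    have hfc : Prod.fst ∘ f = c := rfl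
    have hfd : Prod.snd ∘ f = d := rfl
    have hfg : f ∘ g = f ↔ c ∘ g = c ∧ d ∘ g = d := by
      simp [funext_iff, Prod.ext_iff, hf, forall_and]
    rw [(hrow f).1, (hrow f).2, hfc, hfd, prod_X_eq_mono]
    by_cases hc : c ∘ g = c <;> by_cases hd : d ∘ g = d <;> by_cases he : cnt c = b <;>
      simp [hfg, hc, hd, he]
  rw [Finset.sum_congr rfl fun g _ => h1 g, Finset.sum_comm,
    Finset.sum_congr rfl fun f _ => by
      rw [← Finset.sum_filter, Finset.sum_const, nsmul_eq_mul],
    sum_stab (α := α) (fun e : Fin N × Fin N → ℕ =>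
      if (fun j => ∑ i, e (j, i)) = b then mono R (fun i => ∑ j, e (j, i)) else 0)]
  rw [← Finset.sum_filter]
  by_cases hb : ∑ i, b i = Fintype.card α
  · rw [if_pos hb]
    congr 1
    simp only [hpoly]
    rw [Finset.prod_sum]
    refine Finset.sum_bij' (fun e _ => fun j _ => fun i => e (j, i))
      (fun ε _ => fun ji => ε ji.1 (Finset.mem_univ _) ji.2) (fun e he => ?_) (fun ε hε => ?_)
      (fun e _ => rfl) (fun ε _ => rfl) (fun e he => ?_)
    · simp only [Finset.mem_filter, funext_iff] at he
      simp only [Finset.mem_pi, Finset.mem_piAntidiag]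
      exact fun j _ => ⟨he.2 j, fun i _ => Finset.mem_univ i⟩
    · simp only [Finset.mem_pi, Finset.mem_piAntidiag] at hε
      simp only [Finset.mem_filter, Finset.mem_piAntidiag, funext_iff]
      refine ⟨⟨?_, fun i _ => Finset.mem_univ i⟩, fun j => (hε j (Finset.mem_univ j)).1⟩
      rw [Fintype.sum_prod_type, ← hb]
      exact Finset.sum_congr rfl fun j _ => (hε j (Finset.mem_univ j)).1
    · simp only [mono_eq_prod]
      rw [Finset.prod_attach _ (fun j => ∏ i, (X i : MvPolynomial (Fin N) R) ^ e (j, i)),
        Finset.prod_comm]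
      exact Finset.prod_congr rfl fun i _ => (Finset.prod_pow_eq_pow_sum _ _ _).symm
  · rw [if_neg hb, Finset.filter_eq_empty_iff.2, Finset.sum_empty, mul_zero]
    intro e he h2
    apply hb
    rw [Finset.mem_piAntidiag] at he
    rw [← he.1, ← h2, Fintype.sum_prod_type]

end H18.SymBlock
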