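import Mathlib

/-!
# Counting bead configurations with an empty runner

At most `(p - 1) p ^ (w - 1)` finite sets of naturals have given residues modulo `p`, no gap on the
residue `0` and weight `w`.
-/

set_option autoImplicit false
set_option linter.unusedSectionVars false

open Finset

namespace H18.SymBlock

variable {p : ℕ}

/-- The runner of `x` below `x`. -/
def below (p : ℕ) (S : Finset ℕ) (x : ℕ) : ℕ := #{y ∈ S | y % p = x % p ∧ y < x}

/-- The weight of a configuration. -/
def wt (p : ℕ) (S : Finset ℕ) : ℕ := ∑ x ∈ S, (x / p - below p S x)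

/-- No gap on runner zero. -/
def Ground (p : ℕ) (S : Finset ℕ) : Prop := ∀ x ∈ S, x % p = 0 → ∀ q < x / p, p * q ∈ S

/-- The configurations to be counted. -/
def IsFam (p : ℕ) (R : Multiset ℕ) (w : ℕ) (S : Finset ℕ) : Prop :=
  S.val.map (· % p) = R ∧ Ground p S ∧ wt p S = w

/-- The bound on the number of configurations. -/
def famBound (p w : ℕ) : ℕ := if w = 0 then 1 else (p - 1) * p ^ (w - 1)

theorem sum_famBound (hp : 0 < p) (w : ℕ) : ∑ j ∈ Finset.range (w + 1), famBound p j = p ^ w := by
  induction w with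
  | zero => simp [famBound]
  | succ w ih =>
    rw [Finset.sum_range_succ, ih, famBound, if_neg (Nat.succ_ne_zero w), Nat.add_sub_cancel, pow_succ']
    obtain ⟨q, rfl⟩ : ∃ q, p = q + 1 := ⟨p - 1, by omega⟩
    rw [Nat.add_sub_cancel]
    ring

theorem famBound_lt {s w : ℕ} (hp : 2 ≤ p) (hw : w ≤ s) (hs : 1 ≤ s) : famBound p w < p ^ s := by
  rw [famBound]
  split_ifs with h
  · calc 1 < p := by omega
      _ ≤ p ^ s := Nat.le_self_pow (by omega) p
  · calc (p - 1) * p ^ (w - 1) < p * p ^ (w - 1) :=
          Nat.mul_lt_mul_of_pos_right (by omega) (pow_pos (by omega) _)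
      _ = p ^ w := by rw [← pow_succ', Nat.sub_add_cancel (by omega : 1 ≤ w)]
      _ ≤ p ^ s := Nat.pow_le_pow_right (by omega) hw

theorem below_le (_hp : 0 < p) (S : Finset ℕ) (x : ℕ) : below p S x ≤ x / p := by
  calc below p S x ≤ #((Finset.range (x / p)).image fun q => x % p + p * q) := by
        refine Finset.card_le_card fun y hy => ?_
        rw [Finset.mem_filter] at hy
        refine Finset.mem_image.2 ⟨y / p, Finset.mem_range.2 ?_, ?_⟩
        · by_contra h
          have h1 := Nat.mod_add_div y p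
          have h2 := Nat.mod_add_div x p
          have h3 : p * (x / p) ≤ p * (y / p) := Nat.mul_le_mul_left p (by omega)
          omega
        · rw [← hy.2.1]; exact Nat.mod_add_div y p
    _ ≤ x / p := Finset.card_image_le.trans (le_of_eq (Finset.card_range _))

/-- A position with nothing missing below it has level zero, and conversely. -/
theorem below_eq_iff (hp : 0 < p) (S : Finset ℕ) (x : ℕ) :
    below p S x = x / p ↔ ∀ q < x / p, x % p + p * q ∈ S := by
  have hinj : Function.Injective fun q => x % p + p * q := fun a b h =>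
    Nat.eq_of_mul_eq_mul_left hp (Nat.add_left_cancel h)
  have hsub : (S.filter fun y => y % p = x % p ∧ y < x) ⊆
      (Finset.range (x / p)).image (fun q => x % p + p * q) := by
    intro y hy
    rw [Finset.mem_filter] at hy
    refine Finset.mem_image.2 ⟨y / p, Finset.mem_range.2 ?_, ?_⟩
    · by_contra h
      have h1 := Nat.mod_add_div y p
      have h2 := Nat.mod_add_div x p
      have h3 : p * (x / p) ≤ p * (y / p) := Nat.mul_le_mul_left p (by omega)
      omega
    · rw [← hy.2.1]; exact Nat.mod_add_div y p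
  constructor
  · intro h q hq
    have heq := Finset.eq_of_subset_of_card_le hsub
      (by rw [Finset.card_image_of_injective _ hinj, Finset.card_range]; exact h.ge)
    have : x % p + p * q ∈ S.filter fun y => y % p = x % p ∧ y < x := by
      rw [heq]; exact Finset.mem_image.2 ⟨q, Finset.mem_range.2 hq, rfl⟩
    exact (Finset.mem_filter.1 this).1
  · intro h
    refine le_antisymm (below_le hp S x) ?_
    rw [← Finset.card_range (x / p), ← Finset.card_image_of_injective _ hinj]
    refine Finset.card_le_card fun y hy => ?_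
    obtain ⟨q, hq, rfl⟩ := Finset.mem_image.1 hy
    rw [Finset.mem_range] at hq
    refine Finset.mem_filter.2 ⟨h q hq, ?_, ?_⟩
    · rw [Nat.add_mul_mod_self_left, Nat.mod_mod]
    · have h3 : p * (q + 1) ≤ p * (x / p) := Nat.mul_le_mul_left p hq
      have h4 := Nat.mod_add_div x p
      rw [Nat.mul_add] at h3
      omega

theorem sub_div_self (hp : 0 < p) {x : ℕ} (h : p ≤ x) : (x - p) / p = x / p - 1 := by
  have := Nat.add_div_right (x - p) hp
  rw [Nat.sub_add_cancel h] at this
  rw [this]
  rfl

theorem eq_of_wt_zero (hp : 0 < p) {S S' : Finset ℕ} (hR : S.val.map (· % p) = S'.val.map (· % p))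
    (h : wt p S = 0) (h' : wt p S' = 0) : S = S' := by
  have key : ∀ {A B : Finset ℕ}, A.val.map (· % p) = B.val.map (· % p) → wt p A = 0 → wt p B = 0 →
      A ⊆ B := by
    intro A B hAB hA hB x hx
    by_contra hxB
    have hdown : ∀ {C : Finset ℕ}, wt p C = 0 → ∀ y ∈ C, ∀ q < y / p, y % p + p * q ∈ C := by
      intro C hC y hy
      refine (below_eq_iff hp C y).1 (le_antisymm (below_le hp C y) ?_)
      exact Nat.le_of_sub_eq_zero ((Finset.sum_eq_zero_iff).1 hC y hy)
    have hcount : #(A.filter fun y => x % p = y % p) = #(B.filter fun y => x % p = y % p) := by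
      have := congrArg (Multiset.count (x % p)) hAB
      rw [Multiset.count_map, Multiset.count_map] at this
      exact this
    apply hcount.not_gt
    refine Finset.card_lt_card ⟨fun y hy => ?_, fun hsub => ?_⟩
    · rw [Finset.mem_filter] at hy ⊢
      refine ⟨?_, hy.2⟩
      have hlt : y / p < x / p := by
        rcases lt_trichotomy (y / p) (x / p) with h | h | h
        · exact h
        · exact absurd (show y = x by rw [← Nat.mod_add_div y p, ← hy.2, h, Nat.mod_add_div]) fun e => hxB (e ▸ hy.1)
        · refine absurd ?_ hxB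
          have := hdown hB y hy.1 (x / p) h
          rwa [← hy.2, Nat.mod_add_div] at this
      have := hdown hA x hx (y / p) hlt
      rwa [hy.2, Nat.mod_add_div] at this
    · have := hsub (show x ∈ A.filter fun y => x % p = y % p by simp [hx])
      exact hxB (Finset.mem_filter.1 this).1
  exact le_antisymm (key hR h h') (key hR.symm h' h)

/-- The top `s` beads of runner `r`. -/
def topSet (p : ℕ) (S : Finset ℕ) (r s : ℕ) : Finset ℕ :=
  {x ∈ S | x % p = r ∧ #{y ∈ S | y % p = r ∧ x ≤ y} ≤ s}

/-- Push the top `s` beads of runner `r` up by one step. -/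
def pushUp (p : ℕ) (S : Finset ℕ) (r s : ℕ) : Finset ℕ :=
  S.image fun x => if x ∈ topSet p S r s then x + p else x

/-- A runner with a gap comes from a smaller configuration. -/
theorem exists_lower (hp : 0 < p) {S : Finset ℕ} {x₀ : ℕ} (hx₀ : x₀ ∈ S)
    (hlvl : x₀ / p - below p S x₀ ≠ 0) :
    ∃ S' : Finset ℕ, ∃ s : ℕ, s = #{x ∈ S | x % p = x₀ % p ∧ below p S x < x / p} ∧ 1 ≤ s ∧
      S'.val.map (· % p) = S.val.map (· % p) ∧ wt p S' + s = wt p S ∧ pushUp p S' (x₀ % p) s = S ∧
      ∀ z, z % p ≠ x₀ % p → (z ∈ S' ↔ z ∈ S) := by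
  set r := x₀ % p with hr
  classical
  let T := S.filter fun x => x % p = r ∧ ∃ q < x / p, r + p * q ∉ S
  have hTr : ∀ x ∈ T, x % p = r := fun x hx => (Finset.mem_filter.1 hx).2.1
  have hup : ∀ x ∈ T, ∀ y ∈ S, y % p = r → x ≤ y → y ∈ T := by
    intro x hx y hy hyr hxy
    obtain ⟨-, -, q, hq, hnot⟩ := Finset.mem_filter.1 hx
    exact Finset.mem_filter.2 ⟨hy, hyr, q, lt_of_lt_of_le hq (Nat.div_le_div_right hxy), hnot⟩
  have hTlvl : ∀ x ∈ T, below p S x < x / p := by
    intro x hx
    obtain ⟨-, hxr, q, hq, hnot⟩ := Finset.mem_filter.1 hx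
    refine lt_of_le_of_ne (below_le hp S x) fun h => hnot ?_
    have := (below_eq_iff hp S x).1 h q hq
    rwa [hxr] at this
  have hpx : ∀ x ∈ T, p ≤ x := fun x hx => by
    obtain ⟨-, -, q, hq, -⟩ := Finset.mem_filter.1 hx
    calc p = p * 1 := (mul_one p).symm
      _ ≤ p * (x / p) := Nat.mul_le_mul_left p (by omega)
      _ ≤ x := Nat.mul_div_le x p
  have hgap : ∀ x ∈ T, x - p ∈ S → x - p ∈ T := by
    intro x hx hmem
    obtain ⟨-, hxr, q, hq, hnot⟩ := Finset.mem_filter.1 hx
    have hmod : (x - p) % p = r := by rw [← Nat.mod_eq_sub_mod (hpx x hx), hxr]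
    refine Finset.mem_filter.2 ⟨hmem, hmod, q, ?_, hnot⟩
    have hdiv : (x - p) / p = x / p - 1 := sub_div_self hp (hpx x hx)
    rw [hdiv]
    refine lt_of_le_of_ne (by omega) fun h => hnot ?_
    rw [← hmod, h, ← hdiv, Nat.mod_add_div]
    exact hmem
  let φ : ℕ → ℕ := fun x => if x ∈ T then x - p else x
  have hφlt : ∀ x ∈ S, ∀ y ∈ S, x % p = y % p → x < y → φ x < φ y := by
    intro x hx y hy hxy hlt
    simp only [φ]
    by_cases hxT : x ∈ T
    · have hyT := hup x hxT y hy (hxy.symm.trans (hTr x hxT)) hlt.le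
      rw [if_pos hxT, if_pos hyT]
      have := hpx x hxT
      omega
    · rw [if_neg hxT]
      by_cases hyT : y ∈ T
      · rw [if_pos hyT]
        refine lt_of_le_of_ne ?_ fun h => hxT (h ▸ hgap y hyT (h ▸ hx))
        have h1 := Nat.mod_add_div x p
        have h2 := Nat.mod_add_div y p
        have h3 : x / p < y / p := by
          by_contra h
          have := Nat.mul_le_mul_left p (not_lt.1 h)
          omega
        have h4 : p * (x / p + 1) ≤ p * (y / p) := Nat.mul_le_mul_left p h3
        rw [Nat.mul_add] at h4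
        omega
      · rw [if_neg hyT]; exact hlt
  have hφmod : ∀ x ∈ S, φ x % p = x % p := fun x _ => by
    simp only [φ]
    split_ifs with h
    · exact (Nat.mod_eq_sub_mod (hpx x h)).symm
    · rfl
  have hφinj : Set.InjOn φ S := by
    intro x hx y hy h
    have hm : x % p = y % p := by rw [← hφmod x hx, h, hφmod y hy]
    rcases lt_trichotomy x y with h1 | h1 | h1
    · exact absurd h (hφlt x hx y hy hm h1).ne
    · exact h1
    · exact absurd h (hφlt y hy x hx hm.symm h1).ne'
  have hbelow : ∀ x ∈ S, below p (S.image φ) (φ x) = below p S x := by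
    intro x hx
    rw [below, below, ← Finset.card_image_of_injOn (f := φ) (s := S.filter fun y => y % p = x % p ∧ y < x)
      (hφinj.mono (Finset.coe_subset.2 (Finset.filter_subset _ _)))]
    congr 1
    ext z
    simp only [Finset.mem_filter, Finset.mem_image]
    constructor
    · rintro ⟨⟨y, hy, rfl⟩, hm, hlt⟩
      rw [hφmod y hy, hφmod x hx] at hm
      refine ⟨y, ⟨hy, hm, ?_⟩, rfl⟩
      rcases lt_trichotomy y x with h1 | h1 | h1
      · exact h1
      · exact absurd (h1 ▸ hlt) (lt_irrefl _)
      · exact absurd hlt (hφlt x hx y hy hm.symm h1).le.not_gt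
    · rintro ⟨y, ⟨hy, hm, hlt⟩, rfl⟩
      exact ⟨⟨y, hy, rfl⟩, by rw [hφmod y hy, hφmod x hx, hm], hφlt y hy x hx hm hlt⟩
  have hTS : T ⊆ S := Finset.filter_subset _ _
  have hwt' : wt p (S.image φ) + #T = wt p S := by
    rw [wt, wt, Finset.sum_image hφinj,
      show #T = ∑ x ∈ S, if x ∈ T then 1 else 0 by
        rw [Finset.sum_ite_mem, Finset.inter_eq_right.2 hTS, Finset.card_eq_sum_ones],
      ← Finset.sum_add_distrib]
    refine Finset.sum_congr rfl fun x hx => ?_
    rw [hbelow x hx]
    simp only [φ]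
    split_ifs with h
    · rw [sub_div_self hp (hpx x h)]
      have := hTlvl x h
      omega
    · rfl
  have hx₀T : x₀ ∈ T := by
    refine Finset.mem_filter.2 ⟨hx₀, hr.symm, ?_⟩
    by_contra h
    simp only [not_exists, not_and, not_not] at h
    exact hlvl (Nat.sub_eq_zero_of_le ((below_eq_iff hp S x₀).2 h).ge)
  have hposT : 0 < #T := Finset.card_pos.2 ⟨x₀, hx₀T⟩
  refine ⟨S.image φ, #T, ?_, hposT, ?_, hwt', ?_, ?_⟩
  · congr 1
    ext x
    simp only [T, Finset.mem_filter]
    refine and_congr_right fun hx => and_congr_right fun hxr => ⟨?_, fun h => ?_⟩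
    · intro hq
      exact hTlvl x (Finset.mem_filter.2 ⟨hx, hxr, hq⟩)
    · by_contra hno
      simp only [not_exists, not_and, not_not] at hno
      exact h.ne ((below_eq_iff hp S x).2 fun q hq => hxr ▸ hno q hq)
  · rw [Finset.image_val_of_injOn hφinj, Multiset.map_map]
    exact Multiset.map_congr rfl fun x hx => hφmod x hx
  · have htop : ∀ x ∈ S, φ x ∈ topSet p (S.image φ) r #T ↔ x ∈ T := by
      intro x hx
      have hcard : x % p = r →
          #((S.image φ).filter fun y => y % p = r ∧ φ x ≤ y) = #(S.filter fun y => y % p = r ∧ x ≤ y) := by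
        intro hxr
        rw [← Finset.card_image_of_injOn (f := φ) (s := S.filter fun y => y % p = r ∧ x ≤ y)
          (hφinj.mono (Finset.coe_subset.2 (Finset.filter_subset _ _)))]
        congr 1
        ext z
        simp only [Finset.mem_filter, Finset.mem_image]
        constructor
        · rintro ⟨⟨y, hy, rfl⟩, hm, hle⟩
          rw [hφmod y hy] at hm
          refine ⟨y, ⟨hy, hm, ?_⟩, rfl⟩
          by_contra h
          exact absurd hle (hφlt y hy x hx (hm.trans hxr.symm) (not_le.1 h)).not_ge
        · rintro ⟨y, ⟨hy, hm, hle⟩, rfl⟩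
          refine ⟨⟨y, hy, rfl⟩, by rw [hφmod y hy, hm], ?_⟩
          rcases eq_or_lt_of_le hle with h1 | h1
          · rw [h1]
          · exact (hφlt x hx y hy (hxr.trans hm.symm) h1).le
      simp only [topSet, Finset.mem_filter]
      constructor
      · rintro ⟨-, hm, hc⟩
        rw [hφmod x hx] at hm
        rw [hcard hm] at hc
        by_contra hxT
        have hsub : insert x T ⊆ S.filter fun y => y % p = r ∧ x ≤ y := by
          intro y hy
          rcases Finset.mem_insert.1 hy with rfl | hy
          · exact Finset.mem_filter.2 ⟨hx, hm, le_rfl⟩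
          · refine Finset.mem_filter.2 ⟨hTS hy, hTr y hy, ?_⟩
            by_contra h
            exact hxT (hup y hy x hx hm (not_le.1 h).le)
        have := Finset.card_le_card hsub
        rw [Finset.card_insert_of_notMem hxT] at this
        omega
      · intro hxT
        refine ⟨Finset.mem_image_of_mem φ hx, by rw [hφmod x hx, hTr x hxT], ?_⟩
        rw [hcard (hTr x hxT)]
        refine Finset.card_le_card fun y hy => ?_
        rw [Finset.mem_filter] at hy
        exact hup x hxT y hy.1 hy.2.1 hy.2.2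
    rw [pushUp, Finset.image_image]
    conv_rhs => rw [← Finset.image_id (s := S)]
    refine Finset.image_congr fun x hx => ?_
    simp only [Function.comp_apply, id]
    by_cases hxT : x ∈ T
    · rw [if_pos ((htop x hx).2 hxT)]
      simp only [φ, if_pos hxT]
      exact Nat.sub_add_cancel (hpx x hxT)
    · rw [if_neg fun h => hxT ((htop x hx).1 h)]
      simp only [φ, if_neg hxT]
  · intro z hz
    have key : ∀ x ∈ S, x % p ≠ r → φ x = x := fun x _ hxr => by
      simp only [φ]
      rw [if_neg fun h => hxr (hTr x h)]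
    constructor
    · intro h
      obtain ⟨x, hx, rfl⟩ := Finset.mem_image.1 h
      rw [hφmod x hx] at hz
      rwa [key x hx hz]
    · intro h
      exact Finset.mem_image.2 ⟨z, h, key z h hz⟩

/-- Every configuration of positive weight comes from a smaller one. -/
theorem exists_smaller (hp : 0 < p) {R : Multiset ℕ} {w : ℕ} {S : Finset ℕ}
    (hS : IsFam p R w S) (hw : w ≠ 0) :
    ∃ r ∈ Finset.Ico 1 p, ∃ s ∈ Finset.Icc 1 w, ∃ S' : Finset ℕ,
      IsFam p R (w - s) S' ∧ pushUp p S' r s = S := by
  obtain ⟨hR, hG, hwt⟩ := hS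
  obtain ⟨x₀, hx₀, hlvl⟩ := Finset.exists_ne_zero_of_sum_ne_zero (hwt ▸ hw : wt p S ≠ 0)
  have hr0 : x₀ % p ≠ 0 := by
    intro h0
    refine hlvl (Nat.sub_eq_zero_of_le (le_of_eq ((below_eq_iff hp S x₀).2 fun q hq => ?_).symm))
    rw [h0, zero_add]
    exact hG x₀ hx₀ h0 q hq
  obtain ⟨S', s, -, hs, hR', hw', hpush, hsame⟩ := exists_lower hp hx₀ hlvl
  refine ⟨x₀ % p, Finset.mem_Ico.2 ⟨Nat.one_le_iff_ne_zero.2 hr0, Nat.mod_lt _ hp⟩, s,
    Finset.mem_Icc.2 ⟨hs, by omega⟩, S', ⟨hR'.trans hR, ?_, by omega⟩, hpush⟩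
  intro z hz hz0 q hq
  have hz' := (hsame z (by omega)).1 hz
  exact (hsame (p * q) (by rw [Nat.mul_mod_right]; omega)).2 (hG z hz' hz0 q hq)

/-- The count of the configurations. -/
theorem exists_fam (hp : 0 < p) (R : Multiset ℕ) :
    ∀ w : ℕ, ∃ F : Finset (Finset ℕ), (∀ S, IsFam p R w S → S ∈ F) ∧ #F ≤ famBound p w := by
  classical
  intro w
  induction w using Nat.strong_induction_on with
  | _ w ih =>
    rcases Nat.eq_zero_or_pos w with rfl | hw
    · by_cases h : ∃ S, IsFam p R 0 S
      · obtain ⟨S, hS⟩ := h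
        refine ⟨{S}, fun S' hS' => Finset.mem_singleton.2
          (eq_of_wt_zero hp (hS'.1.trans hS.1.symm) hS'.2.2 hS.2.2), by simp [famBound]⟩
      · exact ⟨∅, fun S hS => absurd ⟨S, hS⟩ h, by simp⟩
    choose F hF1 hF2 using ih
    refine ⟨(Finset.range w).attach.biUnion fun j => (Finset.Ico 1 p).biUnion fun r =>
      (F j.1 (Finset.mem_range.1 j.2)).image fun S' => pushUp p S' r (w - j.1), fun S hS => ?_, ?_⟩
    · obtain ⟨r, hr, s, hs, S', hS', he⟩ := exists_smaller hp hS hw.ne'
      rw [Finset.mem_Icc] at hs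
      simp only [Finset.mem_biUnion, Finset.mem_image]
      refine ⟨⟨w - s, Finset.mem_range.2 (by omega)⟩, Finset.mem_attach _ _, r, hr, S', hF1 _ _ _ hS', ?_⟩
      rw [show w - (w - s) = s by omega]
      exact he
    · calc _ ≤ ∑ j ∈ (Finset.range w).attach, ∑ r ∈ Finset.Ico 1 p, famBound p j.1 := by
            refine Finset.card_biUnion_le.trans (Finset.sum_le_sum fun j _ => ?_)
            refine Finset.card_biUnion_le.trans (Finset.sum_le_sum fun r _ => ?_)
            exact Finset.card_image_le.trans (hF2 _ _)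
        _ = (p - 1) * ∑ j ∈ Finset.range w, famBound p j := by
            rw [Finset.sum_attach (Finset.range w) fun j => ∑ r ∈ Finset.Ico 1 p, famBound p j,
              Finset.mul_sum]
            simp
        _ = famBound p w := by
            obtain ⟨v, rfl⟩ : ∃ v, w = v + 1 := ⟨w - 1, by omega⟩
            rw [sum_famBound hp, famBound, if_neg (Nat.succ_ne_zero v), Nat.add_sub_cancel]

end H18.SymBlock
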