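import Cfsg.Agent.H18.SymBlock.Chi

/-!
# Contents: the central characters determine the residues of the exponent vector
-/

set_option autoImplicit false
set_option linter.unusedSectionVars false

open Cfsg Finset MvPolynomial
open scoped Nat

namespace H18.SymBlock

universe u

variable {N : ℕ} {α : Type u} [Fintype α] [DecidableEq α]

theorem card_piAntidiag_fin (T r : ℕ) :
    #(Finset.piAntidiag (Finset.univ : Finset (Fin T)) r) = T.multichoose r := by
  classical
  calc #(Finset.piAntidiag (Finset.univ : Finset (Fin T)) r)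
      = Fintype.card {P : Fin T → ℕ // P ∈ Finset.piAntidiag (Finset.univ : Finset (Fin T)) r} :=
        (Fintype.card_coe _).symm
    _ = Nat.card {P : Fin T → ℕ // ∑ i, P i = r} := by
        rw [← Nat.card_eq_fintype_card]
        exact Nat.card_congr (Equiv.subtypeEquivRight fun P => by simp [Finset.mem_piAntidiag])
    _ = T.multichoose r := by
        rw [Nat.card_congr (Sym.equivNatSumOfFintype (Fin T) r).symm, Nat.card_eq_fintype_card,
          Sym.card_sym_eq_multichoose, Fintype.card_fin]

/-- The number of orbits of a permutation. -/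
noncomputable def numOrb (g : Equiv.Perm α) : ℕ :=
  Nat.card (Quotient (Equiv.Perm.SameCycle.setoid g))

theorem card_fixed_colourings (T : ℕ) (g : Equiv.Perm α) :
    #{c : α → Fin T | c ∘ g = c} = T ^ numOrb g := by
  classical
  have hconst : ∀ (c : α → Fin T), c ∘ g = c → ∀ a b, g.SameCycle a b → c a = c b := by
    rintro c hc a b ⟨i, rfl⟩
    induction i with
    | zero => simp
    | succ i ih =>
      rw [ih, add_comm, zpow_add, zpow_one, Equiv.Perm.mul_apply]
      exact (congrFun hc _).symm
    | pred i ih =>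
      rw [ih]
      have := congrFun hc ((g ^ (-(i : ℤ) - 1)) a)
      simp only [Function.comp_apply] at this
      rw [← this, ← Equiv.Perm.mul_apply, ← zpow_one_add]
      congr 2
      ring_nf
  rw [← Fintype.card_subtype, ← Nat.card_eq_fintype_card,
    show T ^ numOrb g = Nat.card (Quotient (Equiv.Perm.SameCycle.setoid g) → Fin T) by
      rw [Nat.card_fun, Nat.card_eq_fintype_card (α := Fin T), Fintype.card_fin]; rfl]
  refine Nat.card_congr
    { toFun := fun c => Quotient.lift c.1 (hconst c.1 c.2)
      invFun := fun f => ⟨fun a => f (Quotient.mk (Equiv.Perm.SameCycle.setoid g) a), ?_⟩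
      left_inv := fun c => rfl
      right_inv := fun f => funext fun q => Quotient.inductionOn q fun a => rfl }
  funext a
  exact congrArg f (Quotient.sound (Equiv.Perm.SameCycle.refl g a).apply_left)

theorem numOrb_le (g : Equiv.Perm α) : numOrb g ≤ Fintype.card α := by
  rw [← Nat.card_eq_fintype_card]
  exact Nat.card_le_card_of_surjective _ Quotient.mk_surjective

theorem numOrb_eq_iff (g : Equiv.Perm α) : numOrb g = Fintype.card α ↔ g = 1 := by
  constructor
  · intro h
    have hb : Function.Bijective (Quotient.mk (Equiv.Perm.SameCycle.setoid g)) :=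
      Quotient.mk_surjective.bijective_of_nat_card_le
        (by rw [Nat.card_eq_fintype_card]; exact h.ge)
    ext a
    exact hb.1 (Quotient.sound (Equiv.Perm.SameCycle.refl g a).apply_left)
  · rintro rfl
    rw [numOrb, ← Nat.card_eq_fintype_card]
    refine (Nat.card_congr (Equiv.ofBijective _ ⟨fun a b h => ?_, Quotient.mk_surjective⟩)).symm
    exact Equiv.Perm.sameCycle_one.1 (Quotient.exact h)

/-- The generating matrix of colourings. -/
noncomputable def colMat (T : ℕ) (b : Fin N → ℕ) : Matrix (Fin N) (Fin N) ℂ :=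
  Matrix.of fun i j => if (j : ℕ) ≤ b i then (T.multichoose (b i - (j : ℕ)) : ℂ) else 0

theorem sum_fixed_colSum (T : ℕ) :
    ∑ g : Equiv.Perm α, C (#{c : α → Fin T | c ∘ g = c} : ℂ) * colSum N ℂ g =
      C ((Fintype.card α)! : ℂ) * ∑ r ∈ Finset.piAntidiag Finset.univ (Fintype.card α),
        C (∏ i, (T.multichoose (r i) : ℂ)) * mono ℂ r := by
  classical
  have h1 : ∀ g : Equiv.Perm α, C (#{c : α → Fin T | c ∘ g = c} : ℂ) * colSum N ℂ g =
      ∑ f : α → Fin T × Fin N, if f ∘ g = f then mono ℂ (fun i => ∑ j, cnt f (j, i)) else 0 := by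
    intro g
    rw [Finset.card_filter, Nat.cast_sum, map_sum, colSum, Finset.sum_filter, Finset.sum_mul_sum,
      ← Fintype.sum_prod_type']
    refine Fintype.sum_equiv (Equiv.arrowProdEquivProdArrow α (fun _ => Fin T) (fun _ => Fin N)).symm
      _ _ fun cd => ?_
    obtain ⟨c, d⟩ := cd
    set f := (Equiv.arrowProdEquivProdArrow α (fun _ => Fin T) (fun _ => Fin N)).symm (c, d) with hf
    have hfg : f ∘ g = f ↔ c ∘ g = c ∧ d ∘ g = d := by
      simp [funext_iff, Prod.ext_iff, hf, forall_and]
    have hrow : (fun i => ∑ j, cnt f (j, i)) = cnt d := by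
      funext i
      symm
      rw [cnt, Finset.card_eq_sum_card_fiberwise (f := fun a => (f a).1) (t := Finset.univ)
        (fun a _ => Finset.mem_univ _)]
      refine Finset.sum_congr rfl fun j _ => ?_
      rw [cnt, Finset.filter_filter]
      congr 1
      ext a
      simp [Prod.ext_iff, and_comm, hf]
    rw [hrow, prod_X_eq_mono]
    by_cases hc : c ∘ g = c <;> by_cases hd : d ∘ g = d <;> simp [hfg, hc, hd]
  rw [Finset.sum_congr rfl fun g _ => h1 g, Finset.sum_comm,
    Finset.sum_congr rfl fun f _ => by rw [← Finset.sum_filter, Finset.sum_const, nsmul_eq_mul],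
    sum_stab (α := α) (fun e : Fin T × Fin N → ℕ => mono ℂ (fun i => ∑ j, e (j, i))), map_natCast]
  congr 1
  rw [← Finset.sum_fiberwise_of_maps_to (t := Finset.piAntidiag Finset.univ (Fintype.card α))
    (g := fun e : Fin T × Fin N → ℕ => fun i => ∑ j, e (j, i)) (fun e he => by
      simp only [Finset.mem_piAntidiag] at he ⊢
      exact ⟨by rw [← he.1, Fintype.sum_prod_type]; exact Finset.sum_comm, fun i _ => Finset.mem_univ i⟩)]
  refine Finset.sum_congr rfl fun r hr => ?_
  rw [Finset.sum_congr rfl (g := fun _ => mono ℂ r) (fun e he => by rw [(Finset.mem_filter.1 he).2]),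
    Finset.sum_const, nsmul_eq_mul]
  congr 1
  rw [map_prod]
  simp only [map_natCast]
  rw [← Nat.cast_prod]
  congr 1
  rw [← Finset.prod_congr rfl (fun i _ => card_piAntidiag_fin T (r i)), ← Fintype.card_piFinset]
  refine Finset.card_bij' (fun e _ => fun i j => e (j, i)) (fun ε _ => fun ji => ε ji.2 ji.1)
    (fun e he => ?_) (fun ε hε => ?_) (fun e _ => rfl) (fun ε _ => rfl)
  · simp only [Finset.mem_filter, funext_iff] at he
    simp only [Fintype.mem_piFinset, Finset.mem_piAntidiag]
    exact fun i => ⟨he.2 i, fun j _ => Finset.mem_univ j⟩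
  · simp only [Fintype.mem_piFinset, Finset.mem_piAntidiag] at hε
    simp only [Finset.mem_filter, Finset.mem_piAntidiag, funext_iff]
    refine ⟨⟨?_, fun i _ => Finset.mem_univ i⟩, fun i => (hε i).1⟩
    rw [Fintype.sum_prod_type, Finset.sum_comm, ← (Finset.mem_piAntidiag.1 hr).1]
    exact Finset.sum_congr rfl fun i _ => (hε i).1

theorem sum_chiS_pow {b : Fin N → ℕ} (hb : IsBeta (Fintype.card α) b) (T : ℕ) :
    ∑ g : Equiv.Perm α, chiS b g * (T : ℂ) ^ numOrb g =
      ((Fintype.card α)! : ℂ) * (colMat T b).det := by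
  classical
  have h1 : ∀ g : Equiv.Perm α, chiS b g * (T : ℂ) ^ numOrb g =
      cf b (altP N ℂ (delta N) * (C (#{c : α → Fin T | c ∘ g = c} : ℂ) * colSum N ℂ g)) := by
    intro g
    simp only [cf]
    rw [mul_left_comm, coeff_C_mul, card_fixed_colourings, Nat.cast_pow, mul_comm]
    rfl
  rw [Finset.sum_congr rfl fun g _ => h1 g, ← cf_sum, ← Finset.mul_sum, sum_fixed_colSum]
  simp only [cf]
  rw [mul_left_comm, coeff_C_mul]
  congr 1
  show cf b _ = _
  rw [altP, Finset.sum_mul, cf_sum, ← Matrix.det_transpose, Matrix.det_apply']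
  refine Finset.sum_congr rfl fun π _ => ?_
  rw [mul_assoc, show ((Equiv.Perm.sign π : ℤ) : MvPolynomial (Fin N) ℂ) =
    C ((Equiv.Perm.sign π : ℤ) : ℂ) from (map_intCast _ _).symm, cf, coeff_C_mul]
  congr 1
  show cf b _ = _
  rw [cf_mono_mul]
  simp only [colMat, Matrix.transpose_apply, Matrix.of_apply]
  by_cases h : delta N ∘ π ≤ b
  · rw [if_pos h, cf_sum, Finset.sum_eq_single (b - delta N ∘ π)]
    · simp only [cf]
      rw [coeff_C_mul]
      show _ * cf (b - delta N ∘ π) (mono ℂ (b - delta N ∘ π)) = _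
      rw [cf_mono, if_pos rfl, mul_one]
      refine Finset.prod_congr rfl fun i _ => ?_
      rw [if_pos (show ((π i : Fin N) : ℕ) ≤ b i from h i)]
      rfl
    · intro r _ hr
      simp only [cf]
      rw [coeff_C_mul]
      show _ * cf (b - delta N ∘ π) (mono ℂ r) = _
      rw [cf_mono, if_neg hr, mul_zero]
    · intro hnot
      exfalso
      apply hnot
      rw [Finset.mem_piAntidiag]
      refine ⟨?_, fun i _ => Finset.mem_univ i⟩
      have h1 : ∑ i, (b - delta N ∘ π) i + ∑ i, delta N (π i) = ∑ i, b i := by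
        rw [← Finset.sum_add_distrib]
        exact Finset.sum_congr rfl fun i _ => Nat.sub_add_cancel (h i)
      rw [Equiv.sum_comp π (delta N), hb.2] at h1
      exact Nat.add_right_cancel h1
  · rw [if_neg h]
    obtain ⟨i, hi⟩ := not_forall.1 h
    exact (Finset.prod_eq_zero (Finset.mem_univ i) (if_neg hi)).symm

theorem det_colMat_delta (T : ℕ) : (colMat T (delta N)).det = 1 := by
  rw [Matrix.det_of_isLowerTriangular]
  · refine Finset.prod_eq_one fun i _ => ?_
    simp [colMat, delta]
  · intro i k hik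
    simp only [OrderDual.toDual_lt_toDual] at hik
    simp only [colMat, Matrix.of_apply]
    rw [if_neg]
    simp only [delta]
    omega

/-- The scalar `(T - N + b)! / (b! (T-1)!)`. -/
noncomputable def rowScalar (T N b : ℕ) : ℂ := ((T - N + b)! : ℂ) / ((b ! : ℂ) * ((T - 1)! : ℂ))

/-- The polynomial attached to a column. -/
noncomputable def colPoly (T N j : ℕ) : Polynomial ℂ :=
  descPochhammer ℂ j *
    (ascPochhammer ℂ (N - 1 - j)).comp (Polynomial.X + Polynomial.C ((T - N + 1 : ℕ) : ℂ))

theorem colMat_apply {T : ℕ} (hT : N ≤ T) (b : Fin N → ℕ) (i j : Fin N) :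
    colMat T b i j = rowScalar T N (b i) * (colPoly T N j).eval (b i : ℂ) := by
  have hj := j.2
  simp only [colMat, Matrix.of_apply, colPoly, Polynomial.eval_mul,
    descPochhammer_eval_eq_descFactorial, Polynomial.eval_comp, Polynomial.eval_add,
    Polynomial.eval_X, Polynomial.eval_C]
  rw [← Nat.cast_add, ← ascPochhammer_eval_cast, ascPochhammer_nat_eq_ascFactorial]
  by_cases h : (j : ℕ) ≤ b i
  · rw [if_pos h, rowScalar, div_mul_eq_mul_div, eq_div_iff (mul_ne_zero
      (by exact_mod_cast Nat.factorial_ne_zero _) (by exact_mod_cast Nat.factorial_ne_zero _))]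
    norm_cast
    rw [Nat.multichoose_eq]
    set k := b i - (j : ℕ) with hk
    have h1 := Nat.choose_mul_factorial_mul_factorial (show k ≤ T + k - 1 by omega)
    rw [show T + k - 1 - k = T - 1 by omega] at h1
    have h2 := Nat.factorial_mul_descFactorial h
    rw [← hk] at h2
    have h3 := Nat.factorial_mul_ascFactorial (T - N + b i) (N - 1 - (j : ℕ))
    rw [show T - N + b i + (N - 1 - (j : ℕ)) = T + k - 1 by omega,
      show T - N + b i + 1 = b i + (T - N + 1) by omega] at h3
    rw [← h2]
    calc (T + k - 1).choose k * (k ! * (b i).descFactorial ↑j * (T - 1)!)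
        = ((T + k - 1).choose k * k ! * (T - 1)!) * (b i).descFactorial ↑j := by ring
      _ = (T + k - 1)! * (b i).descFactorial ↑j := by rw [h1]
      _ = _ := by rw [← h3]; ring
  · rw [if_neg h, Nat.descFactorial_eq_zero_iff_lt.2 (by omega)]
    simp

theorem colPoly_natDegree_le (T N j : ℕ) (hj : j < N) : (colPoly T N j).natDegree ≤ N - 1 := by
  refine le_trans Polynomial.natDegree_mul_le ?_
  rw [descPochhammer_natDegree, Polynomial.natDegree_comp, ascPochhammer_natDegree,
    Polynomial.natDegree_X_add_C, mul_one]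
  omega

/-- The determinant of the colouring matrix is a scalar times a Vandermonde product. -/
theorem exists_det_colMat {T : ℕ} (hT : N ≤ T) :
    ∃ c : ℂ, ∀ b : Fin N → ℕ,
      (colMat T b).det = c * (∏ i, rowScalar T N (b i)) *
        (Matrix.vandermonde fun i => (b i : ℂ)).det := by
  refine ⟨(Matrix.of fun (l : Fin N) (j : Fin N) => (colPoly T N j).coeff l).det, fun b => ?_⟩
  have h : colMat T b = Matrix.of fun i j => rowScalar T N (b i) *
      ((Matrix.vandermonde fun i => (b i : ℂ)) *
        Matrix.of fun (l : Fin N) (j : Fin N) => (colPoly T N j).coeff l) i j := by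
    refine Matrix.ext fun i j => ?_
    rw [colMat_apply hT, Matrix.of_apply, Matrix.mul_apply,
      Polynomial.eval_eq_sum_range' (n := N) (by
        have := colPoly_natDegree_le T N j j.2
        have := j.2
        omega), ← Fin.sum_univ_eq_sum_range (fun l => (colPoly T N j).coeff l * (b i : ℂ) ^ l)]
    congr 1
    refine Finset.sum_congr rfl fun l _ => ?_
    rw [Matrix.vandermonde_apply, Matrix.of_apply, mul_comm]
  rw [h, Matrix.det_mul_column, Matrix.det_mul]
  ring

theorem factorial_ratio (a i b : ℕ) (h : i ≤ b) :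
    ((a + b)! : ℂ) = ((a + i)! : ℂ) * ∏ k ∈ Finset.Ioc i b, ((a + k : ℕ) : ℂ) := by
  induction b, h using Nat.le_induction with
  | base => simp
  | succ b hb ih =>
    rw [show a + (b + 1) = (a + b) + 1 by omega, Nat.factorial_succ, Nat.cast_mul, ih,
      Finset.prod_Ioc_succ_top hb, show a + b + 1 = a + (b + 1) by omega]
    ring

theorem le_of_strictMono {b : Fin N → ℕ} (hb : StrictMono b) (i : Fin N) : (i : ℕ) ≤ b i := by
  suffices h : ∀ k, ∀ hk : k < N, k ≤ b ⟨k, hk⟩ from h i i.2
  intro k
  induction k with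
  | zero => intro _; exact Nat.zero_le _
  | succ k ih =>
    intro hk
    have h1 := ih (by omega)
    have h2 := hb (show (⟨k, by omega⟩ : Fin N) < ⟨k + 1, hk⟩ from Nat.lt_succ_self k)
    omega

variable (N) in
/-- The content polynomial of an exponent vector. -/
noncomputable def contentPoly (b : Fin N → ℕ) : Polynomial ℤ :=
  ∏ i : Fin N, ∏ k ∈ Finset.Ioc (i : ℕ) (b i), (Polynomial.X + Polynomial.C ((k : ℤ) - N))

theorem contentPoly_monic (b : Fin N → ℕ) : (contentPoly N b).Monic :=
  Polynomial.monic_prod_of_monic _ _ fun _ _ =>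
    Polynomial.monic_prod_of_monic _ _ fun _ _ => Polynomial.monic_X_add_C _

theorem contentPoly_natDegree {n : ℕ} {b : Fin N → ℕ} (hb : IsBeta n b) :
    (contentPoly N b).natDegree = n := by
  rw [contentPoly, Polynomial.natDegree_prod_of_monic _ _ fun _ _ =>
    Polynomial.monic_prod_of_monic _ _ fun _ _ => Polynomial.monic_X_add_C _]
  have h : ∀ i : Fin N, (∏ k ∈ Finset.Ioc (i : ℕ) (b i),
      (Polynomial.X + Polynomial.C ((k : ℤ) - N))).natDegree = b i - (i : ℕ) := fun i => by
    rw [Polynomial.natDegree_prod_of_monic _ _ fun _ _ => Polynomial.monic_X_add_C _]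
    rw [Finset.sum_congr rfl fun k _ => Polynomial.natDegree_X_add_C _]
    simp
  rw [Finset.sum_congr rfl fun i _ => h i]
  have h2 : ∑ i : Fin N, (b i - (i : ℕ)) + ∑ i, delta N i = ∑ i, b i := by
    rw [← Finset.sum_add_distrib]
    exact Finset.sum_congr rfl fun i _ => Nat.sub_add_cancel (le_of_strictMono hb.1 i)
  rw [hb.2] at h2
  omega

/-- The Vandermonde ratio that gives the degree. -/
noncomputable def degConst (b : Fin N → ℕ) : ℂ :=
  ((Matrix.vandermonde fun i => (b i : ℂ)).det /
      (Matrix.vandermonde fun i : Fin N => ((i : ℕ) : ℂ)).det) *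
    ∏ i : Fin N, (((i : ℕ)! : ℂ) / ((b i)! : ℂ))

theorem det_vandermonde_natCast_ne_zero {b : Fin N → ℕ} (hb : Function.Injective b) :
    (Matrix.vandermonde fun i => (b i : ℂ)).det ≠ 0 :=
  Matrix.det_vandermonde_ne_zero_iff.2 (Nat.cast_injective.comp hb)

theorem degConst_ne_zero {b : Fin N → ℕ} (hb : Function.Injective b) : degConst b ≠ 0 := by
  refine mul_ne_zero (div_ne_zero (det_vandermonde_natCast_ne_zero hb)
    (det_vandermonde_natCast_ne_zero Fin.val_injective)) (Finset.prod_ne_zero_iff.2 fun i _ => ?_)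
  exact div_ne_zero (by exact_mod_cast Nat.factorial_ne_zero _) (by exact_mod_cast Nat.factorial_ne_zero _)

theorem det_colMat_eq {T : ℕ} (hT : N ≤ T) {b : Fin N → ℕ} (hb : StrictMono b) :
    (colMat T b).det = degConst b * ((contentPoly N b).map (Int.castRingHom ℂ)).eval (T : ℂ) := by
  obtain ⟨c, hc⟩ := exists_det_colMat (N := N) hT
  have h1 := hc (delta N)
  rw [det_colMat_delta] at h1
  have hrow : ∀ i : Fin N, rowScalar T N (b i) = rowScalar T N (delta N i) *
      ((((i : ℕ)! : ℂ) / ((b i)! : ℂ)) *
        ((∏ k ∈ Finset.Ioc (i : ℕ) (b i), (Polynomial.X + Polynomial.C ((k : ℤ) - N))).map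
          (Int.castRingHom ℂ)).eval (T : ℂ)) := by
    intro i
    rw [Polynomial.map_prod, Polynomial.eval_prod,
      Finset.prod_congr rfl (g := fun k => ((T - N + k : ℕ) : ℂ)) fun k _ => by
        rw [Polynomial.map_add, Polynomial.map_X, Polynomial.map_C, Polynomial.eval_add,
          Polynomial.eval_X, Polynomial.eval_C, eq_intCast]
        rw [Nat.cast_add, Nat.cast_sub hT]
        push_cast
        ring,
      rowScalar, rowScalar, factorial_ratio (T - N) i (b i) (le_of_strictMono hb i)]
    have h0 : ∀ m : ℕ, (m ! : ℂ) ≠ 0 := fun m => by exact_mod_cast Nat.factorial_ne_zero m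
    simp only [delta]
    have := h0 (T - 1)
    have := h0 (i : ℕ)
    have := h0 (b i)
    field_simp
  rw [hc b, Finset.prod_congr rfl fun i _ => hrow i, Finset.prod_mul_distrib,
    Finset.prod_mul_distrib, degConst, contentPoly]
  simp only [Polynomial.map_prod, Polynomial.eval_prod]
  have hd : (Matrix.vandermonde fun i : Fin N => ((i : ℕ) : ℂ)).det ≠ 0 :=
    det_vandermonde_natCast_ne_zero Fin.val_injective
  have h1' : c * (∏ i, rowScalar T N (delta N i)) =
      ((Matrix.vandermonde fun i : Fin N => ((i : ℕ) : ℂ)).det)⁻¹ :=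
    eq_inv_of_mul_eq_one_left h1.symm
  rw [← mul_assoc c, h1']
  field_simp

variable (α) in
/-- The character sum refined by the number of orbits. -/
noncomputable def orbPoly (b : Fin N → ℕ) : Polynomial ℂ :=
  ∑ g : Equiv.Perm α, Polynomial.C (chiS b g) * Polynomial.X ^ numOrb g

theorem orbPoly_eq {b : Fin N → ℕ} (hb : IsBeta (Fintype.card α) b) :
    orbPoly α b = Polynomial.C (((Fintype.card α)! : ℂ) * degConst b) *
      (contentPoly N b).map (Int.castRingHom ℂ) := by
  apply Polynomial.eq_of_infinite_eval_eq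
  apply Set.Infinite.mono (s := (fun T : ℕ => (T : ℂ)) '' Set.Ici N)
  · rintro _ ⟨T, hT, rfl⟩
    simp only [Set.mem_ofPred_eq, orbPoly, Polynomial.eval_finsetSum, Polynomial.eval_mul,
      Polynomial.eval_C, Polynomial.eval_pow, Polynomial.eval_X]
    rw [sum_chiS_pow hb T, det_colMat_eq hT hb.1, mul_assoc]
  · exact (Set.Ici_infinite N).image Nat.cast_injective.injOn

theorem coeff_orbPoly (b : Fin N → ℕ) (m : ℕ) :
    (orbPoly α b).coeff m = ∑ g : Equiv.Perm α, if numOrb g = m then chiS b g else 0 := by
  rw [orbPoly, Polynomial.finsetSum_coeff]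
  refine Finset.sum_congr rfl fun g _ => ?_
  simp [Polynomial.coeff_C_mul, Polynomial.coeff_X_pow, eq_comm]

theorem chiS_one {b : Fin N → ℕ} (hb : IsBeta (Fintype.card α) b) :
    chiS b (1 : Equiv.Perm α) = ((Fintype.card α)! : ℂ) * degConst b := by
  have h := congrArg (fun P => Polynomial.coeff P (Fintype.card α)) (orbPoly_eq hb)
  simp only [coeff_orbPoly, numOrb_eq_iff, Finset.sum_ite_eq', Finset.mem_univ, if_true,
    Polynomial.coeff_C_mul] at h
  rw [h, Polynomial.coeff_map, ← contentPoly_natDegree hb, (contentPoly_monic b).coeff_natDegree,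
    map_one, mul_one]

theorem chiS_one_ne_zero {b : Fin N → ℕ} (hb : IsBeta (Fintype.card α) b) :
    chiS b (1 : Equiv.Perm α) ≠ 0 := by
  rw [chiS_one hb]
  exact mul_ne_zero (by exact_mod_cast Nat.factorial_ne_zero _) (degConst_ne_zero hb.1.injective)

/-- The coefficients of the content polynomial are averaged character values. -/
theorem coeff_contentPoly {b : Fin N → ℕ} (hb : IsBeta (Fintype.card α) b) (m : ℕ) :
    (((contentPoly N b).coeff m : ℤ) : ℂ) =
      ∑ g : Equiv.Perm α, if numOrb g = m then chiS b g / chiS b (1 : Equiv.Perm α) else 0 := by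
  have h := congrArg (fun P => Polynomial.coeff P m) (orbPoly_eq hb)
  simp only [coeff_orbPoly, Polynomial.coeff_C_mul, Polynomial.coeff_map, eq_intCast] at h
  rw [← chiS_one hb] at h
  have h0 := chiS_one_ne_zero hb
  rw [show (∑ g : Equiv.Perm α, if numOrb g = m then chiS b g / chiS b (1 : Equiv.Perm α) else 0) =
    (∑ g : Equiv.Perm α, if numOrb g = m then chiS b g else 0) / chiS b (1 : Equiv.Perm α) by
      rw [Finset.sum_div]; exact Finset.sum_congr rfl fun g _ => by split_ifs <;> simp,
    h, mul_div_cancel_left₀ _ h0]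

end H18.SymBlock
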