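import Cfsg.Agent.H18.SymBlock.Hooks
import Cfsg.Agent.H20.SecondMainApps
import Cfsg.Agent.H20.FirstMain
import Cfsg.Prelude.Def_CaseTheorems

/-!
# The weight of a block of a symmetric group is bounded by the sectional rank of its defect group
-/

set_option autoImplicit false
set_option linter.unusedSectionVars false
set_option linter.style.haveILetI false

open Cfsg Finset

namespace H18.SymBlock

universe u

variable {p : ℕ}

/-- A `p`-subgroup of the normaliser of a defect group normalised by it lies in the defect group. -/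
theorem le_defectGroup_of_normalized {G : Type u} [Group G] [Fintype G] {M : Ideal AlgInt}
    [M.IsPrime] (hM : IsPModular p M) {B : Set (IrrCharacter G)} (hB : IsPBlock M B)
    {D : Subgroup G} (hD : IsDefectGroup p M B D) {R : Subgroup G} (hR : IsPGroup p R)
    (hRN : R ≤ Subgroup.normalizer (D : Set G))
    (hn : Subgroup.normalizer (D : Set G) ≤ Subgroup.normalizer (R : Set G)) : R ≤ D := by
  haveI : Fintype (Subgroup.normalizer (D : Set G)) := Fintype.ofFinite _
  obtain ⟨b, hb, hbD, -⟩ := H20.first_main_exists hM (H20.IsDefectGroup.isPGroup hD) hB hD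
  haveI : (R.subgroupOf (Subgroup.normalizer (D : Set G))).Normal :=
    (Subgroup.normal_subgroupOf_iff_le_normalizer hRN).2 hn
  have h := H20.normal_le_defectGroup hM hb
    (Q := R.subgroupOf (Subgroup.normalizer (D : Set G)))
    (hR.comap_subtype : IsPGroup p (R.subgroupOf (Subgroup.normalizer (D : Set G)))) hbD
  intro x hx
  exact h (show (⟨x, hRN hx⟩ : Subgroup.normalizer (D : Set G)) ∈
    R.subgroupOf (Subgroup.normalizer (D : Set G)) from hx)

variable {X : Type u} [Fintype X] [DecidableEq X]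

/-- The permutations that agree with some element of `D` on every orbit of `D`. -/
def orbitwise (D : Subgroup (Equiv.Perm X)) : Subgroup (Equiv.Perm X) where
  carrier := {x | ∀ i, ∃ d ∈ D, ∀ u ∈ D, x (u i) = d (u i)}
  one_mem' i := ⟨1, D.one_mem, fun _ _ => rfl⟩
  mul_mem' := by
    intro x y hx hy i
    obtain ⟨d, hd, hy'⟩ := hy i
    obtain ⟨e, he, hx'⟩ := hx i
    refine ⟨e * d, D.mul_mem he hd, fun u hu => ?_⟩
    rw [Equiv.Perm.mul_apply, Equiv.Perm.mul_apply, hy' u hu, ← Equiv.Perm.mul_apply d u,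
      hx' _ (D.mul_mem hd hu)]
  inv_mem' := by
    intro x hx i
    obtain ⟨d, hd, hx'⟩ := hx i
    refine ⟨d⁻¹, D.inv_mem hd, fun u hu => x.injective ?_⟩
    rw [← Equiv.Perm.mul_apply x x⁻¹, mul_inv_cancel, ← Equiv.Perm.mul_apply d⁻¹ u,
      hx' _ (D.mul_mem (D.inv_mem hd) hu)]
    simp

theorem le_orbitwise (D : Subgroup (Equiv.Perm X)) : D ≤ orbitwise D :=
  fun d hd _ => ⟨d, hd, fun _ _ => rfl⟩

theorem isPGroup_orbitwise [Fact p.Prime] {D : Subgroup (Equiv.Perm X)} (hD : IsPGroup p D) :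
    IsPGroup p (orbitwise D) := by
  obtain ⟨e, he⟩ := IsPGroup.iff_card.1 hD
  intro x
  refine ⟨e, Subtype.ext (Equiv.ext fun i => ?_)⟩
  rw [SubmonoidClass.coe_pow, OneMemClass.coe_one, Equiv.Perm.one_apply]
  obtain ⟨d, hd, hx⟩ := x.2 i
  have key : ∀ k : ℕ, ((x : Equiv.Perm X) ^ k) i = (d ^ k) i := fun k => by
    induction k with
    | zero => rfl
    | succ k ih =>
      rw [pow_succ', Equiv.Perm.mul_apply, ih, pow_succ', Equiv.Perm.mul_apply]
      exact hx _ (D.pow_mem hd k)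
  have h1 : (⟨d, hd⟩ : D) ^ Nat.card D = 1 := pow_card_eq_one'
  have h2 := congrArg Subtype.val h1
  rw [SubmonoidClass.coe_pow, OneMemClass.coe_one, he] at h2
  rw [key, h2, Equiv.Perm.one_apply]

theorem orbitwise_conj_mem {D : Subgroup (Equiv.Perm X)} {c x : Equiv.Perm X}
    (hc : c ∈ Subgroup.normalizer (D : Set (Equiv.Perm X))) (hx : x ∈ orbitwise D) :
    c * x * c⁻¹ ∈ orbitwise D := by
  intro i
  obtain ⟨d, hd, hx'⟩ := hx (c⁻¹ i)
  refine ⟨c * d * c⁻¹, (Subgroup.mem_normalizer_iff.1 hc d).1 hd, fun u hu => ?_⟩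
  have hu' : c⁻¹ * u * c⁻¹⁻¹ ∈ D := (Subgroup.mem_normalizer_iff.1 (inv_mem hc) u).1 hu
  have h := hx' _ hu'
  simp only [inv_inv, Equiv.Perm.mul_apply, Equiv.Perm.coe_inv, Equiv.apply_symm_apply] at h ⊢
  rw [h]

theorem orbitwise_le_of_defectGroup [Fact p.Prime] {M : Ideal AlgInt} [M.IsPrime]
    (hM : IsPModular p M) {B : Set (IrrCharacter (Equiv.Perm X))} (hB : IsPBlock M B)
    {D : Subgroup (Equiv.Perm X)} (hD : IsDefectGroup p M B D) : orbitwise D ≤ D := by
  have hp := H20.IsDefectGroup.isPGroup hD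
  have hconj : ∀ {c : Equiv.Perm X}, c ∈ Subgroup.normalizer (D : Set (Equiv.Perm X)) →
      ∀ x ∈ orbitwise D ⊓ Subgroup.normalizer (D : Set (Equiv.Perm X)),
        c * x * c⁻¹ ∈ orbitwise D ⊓ Subgroup.normalizer (D : Set (Equiv.Perm X)) :=
    fun hc x hx => Subgroup.mem_inf.2 ⟨orbitwise_conj_mem hc hx.1,
      Subgroup.mul_mem _ (Subgroup.mul_mem _ hc hx.2) (Subgroup.inv_mem _ hc)⟩
  have hR : orbitwise D ⊓ Subgroup.normalizer (D : Set (Equiv.Perm X)) ≤ D := by
    refine le_defectGroup_of_normalized hM hB hD ((isPGroup_orbitwise hp).to_le inf_le_left)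
      inf_le_right fun c hc => Subgroup.mem_normalizer_iff.2 fun x => ⟨hconj hc x, fun h => ?_⟩
    have := hconj (inv_mem hc) _ h
    simpa [mul_assoc] using this
  have hnc : NormalizerCondition (orbitwise D) := by
    haveI : Group.IsNilpotent (orbitwise D) := (isPGroup_orbitwise hp).isNilpotent
    exact Group.normalizerCondition_of_isNilpotent
  have htop : D.subgroupOf (orbitwise D) = ⊤ := by
    refine normalizerCondition_iff_only_full_group_self_normalizing.1 hnc _
      (le_antisymm ?_ Subgroup.le_normalizer)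
    intro x hx
    rw [Subgroup.mem_normalizer_iff] at hx
    refine Subgroup.mem_subgroupOf.2 (hR ⟨x.2, Subgroup.mem_normalizer_iff.2 fun u => ⟨fun hu => ?_, fun hu => ?_⟩⟩)
    · exact Subgroup.mem_subgroupOf.1 ((hx ⟨u, le_orbitwise D hu⟩).1 hu)
    · have hu' : u ∈ orbitwise D := by
        have := mul_mem (mul_mem (inv_mem x.2) (le_orbitwise D hu)) x.2
        simpa [mul_assoc] using this
      exact Subgroup.mem_subgroupOf.1 ((hx ⟨u, hu'⟩).2 hu)
  intro x hx
  have h : (⟨x, hx⟩ : orbitwise D) ∈ D.subgroupOf (orbitwise D) := htop ▸ Subgroup.mem_top _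
  exact h

/-- The defect class fixes every point moved by its defect group. -/
theorem apply_eq_self_of_moved [Fact p.Prime] {M : Ideal AlgInt} [M.IsPrime]
    (hM : IsPModular p M) {B : Set (IrrCharacter (Equiv.Perm X))} (hB : IsPBlock M B)
    {D : Subgroup (Equiv.Perm X)} {g : Equiv.Perm X} (hg : IsDefectClass M B g)
    (hS : H20.IsSylC p g D) {d₀ : Equiv.Perm X} (hd₀ : d₀ ∈ D) {i : X} (hi : d₀ i ≠ i) :
    g i = i := by
  have hD : IsDefectGroup p M B D := ⟨g, hg, hS⟩
  have hreg := H20.regular_of_coeff_ne_zero hM hB ((H20.isDefectClass_iff hB g).1 hg).1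
  have hcomm : ∀ d ∈ D, ∀ x, d (g x) = g (d x) := fun d hd x => by
    have := hS.mem_centralizer d hd
    simpa using Equiv.Perm.congr_fun this x
  have hinv : ∀ d ∈ D, ∀ y, (∃ u ∈ D, u i = d y) ↔ ∃ u ∈ D, u i = y := by
    intro d hd y
    constructor
    · rintro ⟨u, hu, h⟩
      exact ⟨d⁻¹ * u, D.mul_mem (D.inv_mem hd) hu, by simp [h]⟩
    · rintro ⟨u, hu, rfl⟩
      exact ⟨d * u, D.mul_mem hd hu, rfl⟩
  classical
  set q : X → Prop := fun y => ∃ u ∈ D, u i = y
  have he : Equiv.Perm.ofSubtype (d₀.subtypePerm (p := q) (hinv d₀ hd₀)) ∈ D := by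
    apply orbitwise_le_of_defectGroup hM hB hD
    intro k
    by_cases hk : q k
    · refine ⟨d₀, hd₀, fun u hu => ?_⟩
      rw [Equiv.Perm.ofSubtype_apply_of_mem _ (show q (u k) from (hinv u hu k).2 hk)]
      rfl
    · refine ⟨1, D.one_mem, fun u hu => ?_⟩
      rw [Equiv.Perm.ofSubtype_apply_of_not_mem _ (show ¬ q (u k) from fun h => hk ((hinv u hu k).1 h))]
      rfl
  set e₀ := Equiv.Perm.ofSubtype (d₀.subtypePerm (p := q) (hinv d₀ hd₀)) with he₀
  have hei : e₀ i = d₀ i := by
    rw [he₀, Equiv.Perm.ofSubtype_apply_of_mem _ (show q i from ⟨1, D.one_mem, rfl⟩)]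
    rfl
  obtain ⟨d, hd, hdi⟩ : q (g i) := by
    by_contra h
    have h1 := hcomm _ he i
    rw [hei, he₀, Equiv.Perm.ofSubtype_apply_of_not_mem _ h] at h1
    exact hi (g.injective h1.symm)
  obtain ⟨e, hce⟩ := IsPGroup.iff_card.1 (H20.IsSylC.isPGroup hS)
  have key : ∀ k : ℕ, (g ^ k) i = (d ^ k) i := fun k => by
    induction k with
    | zero => rfl
    | succ k ih =>
      rw [pow_succ', Equiv.Perm.mul_apply, ih, ← hcomm _ (D.pow_mem hd k), ← hdi,
        ← Equiv.Perm.mul_apply, ← pow_succ]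
  have h1 : (⟨d, hd⟩ : D) ^ Nat.card D = 1 := pow_card_eq_one'
  have h2 := congrArg Subtype.val h1
  rw [SubmonoidClass.coe_pow, OneMemClass.coe_one, hce] at h2
  have hfix : (g ^ p ^ e) i = i := by rw [key, h2, Equiv.Perm.one_apply]
  obtain ⟨m, hm⟩ := exists_pow_eq_self_of_coprime (n := p ^ e) (x := g)
    (Nat.Coprime.pow_left _ ((Fact.out (p := p.Prime)).coprime_iff_not_dvd.2 hreg))
  rw [← hm]
  exact Equiv.Perm.pow_apply_eq_self_of_apply_eq_self hfix m

theorem le_rank_of_subgroup [Fact p.Prime] {K : Type u} [Group K] {s r : ℕ}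
    (hs : SectionalPRankLE p s K) (A : Subgroup K) (hc : ∀ a ∈ A, ∀ b ∈ A, a * b = b * a)
    (he : ∀ a ∈ A, a ^ p = 1) (hcard : Nat.card A = p ^ r) : r ≤ s := by
  let e : ((⊤ : Subgroup K) ⧸ (⊥ : Subgroup (⊤ : Subgroup K))) ≃* K :=
    QuotientGroup.quotientBot.trans Subgroup.topEquiv
  have h := hs ⊤ ⊥ (A.map e.symm.toMonoidHom) ⟨⟨?_⟩⟩ ?_
  · rw [Subgroup.card_map_of_injective (f := e.symm.toMonoidHom) e.symm.injective, hcard] at h
    exact (Nat.pow_le_pow_iff_right (Fact.out (p := p.Prime)).one_lt).1 h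
  · rintro ⟨_, a, ha, rfl⟩ ⟨_, b, hb, rfl⟩
    refine Subtype.ext ?_
    show e.symm a * e.symm b = e.symm b * e.symm a
    rw [← map_mul, ← map_mul, hc a ha b hb]
  · rintro _ ⟨a, ha, rfl⟩
    rw [← map_pow, he a ha, map_one]

/-- Independent translations of the `p`-cycles. -/
def translations (p w m : ℕ) [NeZero p] :
    Multiplicative (Fin w → Fin p) →* Equiv.Perm ((Fin w × Fin p) ⊕ Fin m) where
  toFun f := Equiv.sumCongr (Equiv.prodShear (Equiv.refl (Fin w))
    fun i => Equiv.addRight (Multiplicative.toAdd f i)) 1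
  map_one' := by
    refine Equiv.ext fun x => ?_
    rcases x with ⟨i, t⟩ | x <;> simp
  map_mul' f g := by
    refine Equiv.ext fun x => ?_
    rcases x with ⟨i, t⟩ | x <;> simp [add_assoc, add_comm, add_left_comm]

theorem translations_injective (p w m : ℕ) [NeZero p] :
    Function.Injective (translations p w m) := by
  intro f g h
  refine Multiplicative.toAdd.injective (funext fun i => ?_)
  simpa [translations] using Equiv.Perm.congr_fun h (Sum.inl (i, 0))

theorem translations_one (p w m : ℕ) [NeZero p] :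
    translations p w m (Multiplicative.ofAdd fun _ => 1) = cycles p w m := by
  obtain ⟨q, rfl⟩ : ∃ q, p = q + 1 := ⟨p - 1, by have := NeZero.pos p; omega⟩
  refine Equiv.ext fun x => ?_
  rcases x with ⟨i, t⟩ | x <;> simp [translations, cycles, finRotate_apply]

theorem translations_pow (p w m : ℕ) [NeZero p] (f : Multiplicative (Fin w → Fin p)) :
    translations p w m f ^ p = 1 := by
  rw [← map_pow, show f ^ p = 1 from ?_, map_one]
  refine Multiplicative.toAdd.injective (funext fun i => ?_)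
  rw [toAdd_pow, Pi.smul_apply, toAdd_one, Pi.zero_apply]
  have h := card_nsmul_eq_zero' (x := Multiplicative.toAdd f i)
  rwa [Nat.card_fin] at h

theorem translations_fix {p w m : ℕ} [NeZero p] (hp : 2 ≤ p) (f : Multiplicative (Fin w → Fin p))
    {x : (Fin w × Fin p) ⊕ Fin m} (hx : cycles p w m x = x) : translations p w m f x = x := by
  rcases x with ⟨i, t⟩ | x
  · exfalso
    rw [← translations_one] at hx
    simp [translations] at hx
    omega
  · simp [translations]

/-- The weight is bounded by the sectional rank of a defect group. -/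
theorem weight_le_of_mem_block {n N : ℕ} [Fact p.Prime] {M : Ideal AlgInt} [M.IsPrime]
    (hM : IsPModular p M) {B : Set (IrrCharacter (Equiv.Perm (Fin n)))} (hB : IsPBlock M B)
    {D : Subgroup (Equiv.Perm (Fin n))} (hD : IsDefectGroup p M B D) {s : ℕ}
    (hs : SectionalPRankLE p s D) {b : Beta N (Fintype.card (Fin n))} (hb : irrOf b ∈ B) :
    weight p (b : Fin N → ℕ) ≤ s := by
  classical
  have hp := (Fact.out (p := p.Prime))
  haveI : NeZero p := ⟨hp.pos.ne'⟩
  obtain ⟨m, hn, hm⟩ := exists_residual hp.pos b.2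
  set w := weight p (b : Fin N → ℕ) with hw
  have hne := chiS_cycles_ne_zero hp.pos b.2.1.injective hm
  rw [← hw] at hne
  let e : ((Fin w × Fin p) ⊕ Fin m) ≃ Fin n := Fintype.equivOfCardEq (by
    rw [Fintype.card_fin] at hn
    simp only [Fintype.card_sum, Fintype.card_prod, Fintype.card_fin]
    rw [mul_comm]; exact hn.symm)
  let φ : Multiplicative (Fin w → Fin p) →* Equiv.Perm (Fin n) :=
    e.permCongrHom.toMonoidHom.comp (translations p w m)
  set a₁ : Multiplicative (Fin w → Fin p) := Multiplicative.ofAdd fun _ => 1 with ha₁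
  have hφ : ∀ a, φ a = e.permCongr (translations p w m a) := fun _ => rfl
  have hval : (irrOf b : Equiv.Perm (Fin n) → ℂ) (φ a₁) ≠ 0 := by
    obtain ⟨ε, hε, hb'⟩ := irrOf_spec b
    rw [hb', Pi.smul_apply, smul_eq_mul, hφ, ha₁, translations_one, chiS, colSum_congr]
    refine mul_ne_zero ?_ hne
    rcases hε with rfl | rfl <;> norm_num
  have hpow : ∀ a, φ a ^ p = 1 := fun a => by
    rw [← map_pow]
    show e.permCongrHom (translations p w m (a ^ p)) = 1
    rw [map_pow, translations_pow, map_one]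
  have hpart : H20.pPart p (φ a₁) = φ a₁ := H20.pPart_eq_self (by
    rcases (Nat.dvd_prime hp).1 (orderOf_dvd_of_pow_eq_one (hpow a₁)) with h | h
    · exact ⟨0, by rw [h, pow_zero]⟩
    · exact ⟨1, by rw [h, pow_one]⟩)
  obtain ⟨D', hD', hmem⟩ : ∃ D', IsDefectGroup p M (blockOf M (irrOf b : Equiv.Perm (Fin n) → ℂ)) D' ∧
      φ a₁ ∈ D' := by
    by_contra h
    simp only [not_exists, not_and] at h
    exact hval (H20.irr_eq_zero_of_pPart_notMem hM _ fun D' hD' => by rw [hpart]; exact h D' hD')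
  rw [← H20.block_eq_blockOf hB hb] at hD'
  obtain ⟨x, rfl⟩ := H20.defectGroup_conj hM hB hD hD'
  rw [H20.mem_conjSub_iff] at hmem
  let ψ : Multiplicative (Fin w → Fin p) →* Equiv.Perm (Fin n) := (MulAut.conj x⁻¹).toMonoidHom.comp φ
  have hψ : ∀ a, ψ a = x⁻¹ * φ a * x := fun a => by simp [ψ]
  have hψinj : Function.Injective ψ := (MulAut.conj x⁻¹).injective.comp
    (e.permCongrHom.injective.comp (translations_injective p w m))
  obtain ⟨g, hg, hS⟩ := hD
  have hfix : ∀ a j, ψ a₁ j = j → ψ a j = j := by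
    intro a j hj
    have hiff : ∀ c, ψ c j = j ↔ translations p w m c (e.symm (x j)) = e.symm (x j) := fun c => by
      rw [hψ, hφ, Equiv.Perm.mul_apply, Equiv.Perm.mul_apply, Equiv.Perm.inv_eq_iff_eq,
        Equiv.permCongr_apply, Equiv.eq_symm_apply]
    rw [hiff] at hj ⊢
    rw [ha₁, translations_one] at hj
    exact translations_fix hp.two_le a hj
  have hD₁ : ψ a₁ ∈ D := by rw [hψ]; exact hmem
  have hgfix : ∀ j, ψ a₁ j ≠ j → g j = j := fun j hj =>
    apply_eq_self_of_moved hM hB hg hS hD₁ hj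
  have hcomm : ∀ a, g * ψ a = ψ a * g := fun a => Equiv.ext fun j => by
    simp only [Equiv.Perm.mul_apply]
    by_cases hj : ψ a₁ j = j
    · have h1 : ψ a₁ (g j) = g j := by
        have := Equiv.Perm.congr_fun (H20.IsSylC.mem_centralizer hS _ hD₁) j
        simp only [Equiv.Perm.mul_apply] at this
        rw [this, hj]
      rw [hfix a j hj, hfix a _ h1]
    · rw [hgfix j hj]
      by_cases hj' : ψ a₁ (ψ a j) = ψ a j
      · have h2 : ψ a j = j := (ψ a).injective (hfix a _ hj')
        rw [h2, hgfix j hj]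
      · rw [hgfix _ hj']
  have hA : IsPGroup p ψ.range := by
    rintro ⟨_, a, rfl⟩
    refine ⟨1, Subtype.ext ?_⟩
    rw [SubmonoidClass.coe_pow, pow_one, OneMemClass.coe_one]
    show ψ a ^ p = 1
    rw [← map_pow]
    show (MulAut.conj x⁻¹) (φ (a ^ p)) = 1
    rw [map_pow φ, hpow, map_one]
  obtain ⟨Q, hQ, hAQ⟩ := H20.exists_isSylC_ge (g := g) hA (by
    rintro _ ⟨a, rfl⟩
    exact (hcomm a).symm)
  obtain ⟨y, hy⟩ := H20.IsSylC.exists_conj hQ hS
  let ι : Multiplicative (Fin w → Fin p) →* D :=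
    ((MulAut.conj y).toMonoidHom.comp ψ).codRestrict D fun a => by
      rw [← hy]
      exact Subgroup.mem_map_of_mem _ (hAQ ⟨a, rfl⟩)
  have hι : Function.Injective ι := fun a b h =>
    hψinj ((MulAut.conj y).injective (congrArg Subtype.val h))
  refine le_rank_of_subgroup hs ι.range (fun a ha b hb => ?_) (fun a ha => ?_) ?_
  · obtain ⟨a, rfl⟩ := ha
    obtain ⟨b, rfl⟩ := hb
    rw [← map_mul, ← map_mul, mul_comm]
  · obtain ⟨a, rfl⟩ := ha
    refine Subtype.ext ?_
    rw [SubmonoidClass.coe_pow, OneMemClass.coe_one]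
    show (MulAut.conj y) (ψ a) ^ p = 1
    rw [← map_pow]
    show (MulAut.conj y) ((MulAut.conj x⁻¹) (φ a) ^ p) = 1
    rw [← map_pow, hpow, map_one, map_one]
  · rw [← Nat.card_congr (MonoidHom.ofInjective hι).toEquiv,
      Nat.card_congr (Multiplicative.toAdd (α := Fin w → Fin p)), Nat.card_fun, Nat.card_fin,
      Nat.card_fin]

theorem one_le_rank [Fact p.Prime] {n : ℕ} {D : Subgroup (Equiv.Perm (Fin n))} (hD : IsPGroup p D)
    (hD1 : D ≠ ⊥) {s : ℕ} (hs : SectionalPRankLE p s D) : 1 ≤ s := by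
  obtain ⟨k, hk⟩ := IsPGroup.iff_card.1 hD
  have hk0 : k ≠ 0 := by
    rintro rfl
    rw [pow_zero] at hk
    exact hD1 (Subgroup.card_eq_one.1 hk)
  obtain ⟨d, hd⟩ := exists_prime_orderOf_dvd_card' (G := D) p (hk ▸ dvd_pow_self p hk0)
  refine le_rank_of_subgroup hs (Subgroup.zpowers d) (fun a ha b hb => ?_) (fun a ha => ?_) ?_
  · obtain ⟨i, rfl⟩ := Subgroup.mem_zpowers_iff.1 ha
    obtain ⟨j, rfl⟩ := Subgroup.mem_zpowers_iff.1 hb
    rw [← zpow_add, ← zpow_add, add_comm]
  · obtain ⟨i, rfl⟩ := Subgroup.mem_zpowers_iff.1 ha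
    rw [← zpow_natCast, ← zpow_mul, mul_comm, zpow_mul, zpow_natCast, ← hd, pow_orderOf_eq_one,
      one_zpow]
  · rw [Nat.card_zpowers, hd, pow_one]

end H18.SymBlock
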