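import Cfsg.Agent.H18.SymBlock.Bound
import Cfsg.Agent.H18.SymBlock.Core
import Cfsg.Agent.H18.SymBlock.Defect
import Cfsg.Prelude.Def_BlockRank

/-!
# The rank of a block of a symmetric group
-/

set_option autoImplicit false
set_option linter.unusedSectionVars false

open Cfsg Finset

namespace H18.SymBlock

theorem map_res_eq_of_cls {N p : ℕ} [NeZero p] {b b' : Fin N → ℕ} (h : cls p b = cls p b') :
    (Finset.univ : Finset (Fin N)).val.map (res p b) = (Finset.univ : Finset (Fin N)).val.map (res p b') := by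
  have key : ∀ c : Fin N → ℕ,
      (Finset.univ : Finset (Fin N)).val.map (res p c) = (cls p c).map ZMod.val := fun c => by
    rw [cls, Multiset.map_map]
    exact Multiset.map_congr rfl fun i _ => (ZMod.val_natCast p (c i)).symm
  rw [key, key, h]

theorem finrank_block_le {n p : ℕ} [Fact p.Prime] {M : Ideal AlgInt}
    (hM : IsPModular p M) {B : Set (IrrCharacter (Equiv.Perm (Fin n)))} (hB : IsPBlock M B)
    {D : Subgroup (Equiv.Perm (Fin n))} (hD : IsDefectGroup p M B D) {s : ℕ}
    (hs : SectionalPRankLE p s D) : ∃ w ≤ s, blockRank p B ≤ famBound p w := by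
  classical
  haveI : M.IsPrime := hM.2.1.isPrime
  have hp := (Fact.out (p := p.Prime))
  haveI : NeZero p := ⟨hp.pos.ne'⟩
  have hN : Fintype.card (Fin n) ≤ n := (Fintype.card_fin n).le
  obtain ⟨ψ, hψ⟩ := H20.block_nonempty hB
  obtain ⟨b, rfl⟩ := (irrOf_bijective (α := Fin n) hN).2 ψ
  refine ⟨weight p (b : Fin n → ℕ), weight_le_of_mem_block hM hB hD hs hψ, ?_⟩
  refine le_trans ?_ (finrank_span_le (α := Fin n) hp.two_le hN (weight p (b : Fin n → ℕ))
    ((Finset.univ : Finset (Fin n)).val.map (res p (b : Fin n → ℕ))))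
  refine Submodule.finrank_mono (Submodule.span_le.2 ?_)
  rintro _ ⟨χ, hχ, rfl⟩
  obtain ⟨c, rfl⟩ := (irrOf_bijective (α := Fin n) hN).2 χ
  have hcls := cls_eq_of_sameBlock hM (H20.sameBlock_of_mem hB hψ hχ)
  have hres := map_res_eq_of_cls hcls
  obtain ⟨ε, -, hc⟩ := irrOf_spec c
  have heq : pRegularPart p (irrOf c : Equiv.Perm (Fin n) → ℂ) =
      ε • (regPart p (c : Fin n → ℕ) : Equiv.Perm (Fin n) → ℂ) := by
    funext g
    rw [Pi.smul_apply, regPart, pRegularPart, pRegularPart, hc, smul_eq_mul]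
    split_ifs
    · rfl
    · rw [mul_zero]
  show pRegularPart p (irrOf c : Equiv.Perm (Fin n) → ℂ) ∈ Submodule.span ℂ _
  rw [heq]
  refine Submodule.smul_mem _ _ (Submodule.subset_span ⟨c, ⟨c.2.1.injective, c.2.2, ?_, hres.symm⟩, rfl⟩)
  exact weight_congr hp.pos c.2.1.injective b.2.1.injective hres.symm (c.2.2.trans b.2.2.symm)

end H18.SymBlock
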