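import Cfsg.Agent.H18.SymBlock.Colour

/-!
# The Jacobi–Trudi identity in alternant form
-/

set_option autoImplicit false
set_option linter.unusedSectionVars false

open Finset

namespace H18.SymBlock

variable {N : ℕ} {R : Type*} [CommRing R]

/-- `1 + a T + a² T² + ⋯`. -/
noncomputable def geomS (a : R) : PowerSeries R := PowerSeries.mk fun n => a ^ n

theorem one_sub_mul_geomS (a : R) : (1 - PowerSeries.C a * PowerSeries.X) * geomS a = 1 := by
  ext n
  rw [sub_mul, one_mul, map_sub, mul_assoc, PowerSeries.coeff_C_mul, geomS]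
  cases n with
  | zero => simp
  | succ n =>
    rw [PowerSeries.coeff_succ_X_mul, PowerSeries.coeff_mk, PowerSeries.coeff_mk,
      PowerSeries.coeff_one, if_neg (Nat.succ_ne_zero n), pow_succ']
    ring

variable (N R) in
/-- The generating series of the complete polynomials. -/
noncomputable def hSeries : PowerSeries (MvPolynomial (Fin N) R) :=
  ∏ l : Fin N, geomS (MvPolynomial.X l)

variable (R) in
/-- The generating series of the elementary polynomials without the `j`-th variable. -/
noncomputable def eSeries (j : Fin N) : PowerSeries (MvPolynomial (Fin N) R) :=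
  ∏ l ∈ Finset.univ.erase j, (1 - PowerSeries.C (MvPolynomial.X l) * PowerSeries.X)

theorem eSeries_mul_hSeries (j : Fin N) :
    eSeries R j * hSeries N R = geomS (MvPolynomial.X j) := by
  rw [eSeries, hSeries, ← Finset.mul_prod_erase Finset.univ (fun l : Fin N => geomS (MvPolynomial.X (R := R) l))
    (Finset.mem_univ j), mul_left_comm, ← Finset.prod_mul_distrib,
    Finset.prod_eq_one (fun l _ => one_sub_mul_geomS _), mul_one]

theorem coeff_prod_linear_eq_zero {ι S : Type*} [CommRing S] [DecidableEq ι] (a : ι → S) (s : Finset ι) :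
    ∀ m, s.card < m → PowerSeries.coeff m (∏ l ∈ s, (1 - PowerSeries.C (a l) * PowerSeries.X)) = 0 := by
  induction s using Finset.induction with
  | empty =>
    intro m hm
    rw [Finset.prod_empty, PowerSeries.coeff_one, if_neg (by simp at hm; omega)]
  | insert i s hi ih =>
    intro m hm
    rw [Finset.card_insert_of_notMem hi] at hm
    obtain ⟨m, rfl⟩ : ∃ m', m = m' + 1 := ⟨m - 1, by omega⟩
    rw [Finset.prod_insert hi, sub_mul, one_mul, map_sub, mul_assoc, PowerSeries.coeff_C_mul,
      PowerSeries.coeff_succ_X_mul, ih (m + 1) (by omega), ih m (by omega), mul_zero, sub_zero]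

theorem coeff_hSeries (m : ℕ) : PowerSeries.coeff m (hSeries N R) = hpoly N R m := by
  classical
  rw [hSeries, PowerSeries.coeff_prod, hpoly]
  refine Finset.sum_bij' (fun l _ => (l : Fin N → ℕ))
    (fun e _ => Finsupp.equivFunOnFinite.symm e) (fun l hl => ?_) (fun e he => ?_)
    (fun l _ => by simp) (fun e _ => by simp) (fun l _ => ?_)
  · rw [Finset.mem_finsuppAntidiag] at hl
    simpa [Finset.mem_piAntidiag] using hl.1
  · rw [Finset.mem_piAntidiag] at he
    rw [Finset.mem_finsuppAntidiag]
    exact ⟨by simpa using he.1, Finset.subset_univ _⟩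
  · rw [mono_eq_prod]
    simp [geomS]

variable (N R) in
/-- The matrix of complete polynomials. -/
noncomputable def jtMat (b : Fin N → ℕ) : Matrix (Fin N) (Fin N) (MvPolynomial (Fin N) R) :=
  Matrix.of fun i k => if (k : ℕ) ≤ b i then hpoly N R (b i - (k : ℕ)) else 0

variable (N R) in
/-- The matrix of elementary polynomials. -/
noncomputable def eMat : Matrix (Fin N) (Fin N) (MvPolynomial (Fin N) R) :=
  Matrix.of fun k j => PowerSeries.coeff (k : ℕ) (eSeries R j)

variable (N R) in
/-- The matrix of powers. -/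
noncomputable def powMat (b : Fin N → ℕ) : Matrix (Fin N) (Fin N) (MvPolynomial (Fin N) R) :=
  Matrix.of fun i j => MvPolynomial.X j ^ b i

theorem jtMat_mul_eMat (b : Fin N → ℕ) : jtMat N R b * eMat N R = powMat N R b := by
  refine Matrix.ext fun i j => ?_
  rw [Matrix.mul_apply]
  simp only [jtMat, eMat, powMat, Matrix.of_apply]
  have h := congrArg (PowerSeries.coeff (b i)) (eSeries_mul_hSeries (R := R) j)
  rw [PowerSeries.coeff_mul, geomS, PowerSeries.coeff_mk] at h
  rw [← h, Finset.Nat.sum_antidiagonal_eq_sum_range_succ_mk]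
  simp only [coeff_hSeries, ite_mul, zero_mul]
  rw [← Finset.sum_filter]
  symm
  refine (Finset.sum_bij_ne_zero (fun k hk hne => (⟨k, ?_⟩ : Fin N)) (fun k hk _ => ?_)
    (fun k _ _ l _ _ hkl => by simpa using hkl) (fun k hk hne => ?_) (fun k _ _ => ?_))
  · by_contra hN
    refine hne ?_
    rw [show PowerSeries.coeff k (eSeries R j) = 0 from
      coeff_prod_linear_eq_zero (fun l : Fin N => MvPolynomial.X (R := R) l) _ k ?_, zero_mul]
    rw [Finset.card_erase_of_mem (Finset.mem_univ j), Finset.card_univ, Fintype.card_fin]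
    have := j.2
    omega
  · simp only [Finset.mem_range] at hk
    simp
    omega
  · simp only [Finset.mem_filter] at hk
    exact ⟨k, Finset.mem_range.2 (by omega), by rwa [mul_comm], rfl⟩
  · ring

theorem hpoly_zero : hpoly N R 0 = 1 := by
  rw [hpoly, Finset.piAntidiag_zero, Finset.sum_singleton, mono_eq_prod]
  simp

theorem det_jtMat_id : (jtMat N R (fun i => (i : ℕ))).det = 1 := by
  rw [Matrix.det_of_lowerTriangular]
  · refine Finset.prod_eq_one fun i _ => ?_
    simp [jtMat, hpoly_zero]
  · intro i k hik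
    simp only [jtMat, Matrix.of_apply]
    rw [if_neg]
    simp only [OrderDual.toDual_lt_toDual] at hik
    omega

variable (N R) in
/-- The alternant. -/
noncomputable def altP (b : Fin N → ℕ) : MvPolynomial (Fin N) R :=
  ∑ π : Equiv.Perm (Fin N), ((Equiv.Perm.sign π : ℤ) : MvPolynomial (Fin N) R) * mono R (b ∘ π)

theorem det_powMat (b : Fin N → ℕ) : (powMat N R b).det = altP N R b := by
  rw [Matrix.det_apply', altP]
  refine Finset.sum_congr rfl fun π _ => ?_
  rw [mono_eq_prod]
  rfl

/-- Jacobi–Trudi. -/
theorem altP_eq (b : Fin N → ℕ) :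
    altP N R b = altP N R (fun i => (i : ℕ)) * (jtMat N R b).det := by
  have h : ∀ c : Fin N → ℕ, altP N R c = (jtMat N R c).det * (eMat N R).det := fun c => by
    rw [← det_powMat, ← jtMat_mul_eMat, Matrix.det_mul]
  rw [h b, h fun i => (i : ℕ), det_jtMat_id, one_mul, mul_comm]

theorem cf_altP (b d : Fin N → ℕ) :
    cf d (altP N R b) =
      ∑ π : Equiv.Perm (Fin N), if b ∘ π = d then ((Equiv.Perm.sign π : ℤ) : R) else 0 := by
  rw [altP, cf_sum]
  refine Finset.sum_congr rfl fun π _ => ?_
  rw [show ((Equiv.Perm.sign π : ℤ) : MvPolynomial (Fin N) R) =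
    MvPolynomial.C ((Equiv.Perm.sign π : ℤ) : R) from (map_intCast _ _).symm, cf,
    MvPolynomial.coeff_C_mul]
  show _ * cf d (mono R (b ∘ π)) = _
  rw [cf_mono]
  split_ifs <;> simp

end H18.SymBlock
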